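import Cfsg.Agent.Lib.IA.Cl

/-! The Clifford group: overgroups of a Sylow 2-subgroup of `A₈` (generated data, helper10). -/

set_option autoImplicit false
set_option maxRecDepth 1000000
set_option maxHeartbeats 0

namespace Cfsg.Lib.IA

open Cfsg.Lib.Calc Cfsg.Lib.Grp Cfsg.Lib.T2 Cfsg.Lib.T3

/-- `e` enlarges the Sylow subgroup `⟨Q, w⟩` -/
abbrev BadP (e : Equiv.Perm (Fin cl.n)) : Prop :=
  e * e ∈ cl.K 1 ∧ e * cl.gam 7 * e⁻¹ * (cl.gam 7)⁻¹ ∈ cl.K 1 ∧ e ∉ cl.K 1 ∧ e * cl.gam 7 ∉ cl.K 1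

/-- `⟨Q, w⟩` is not a Sylow subgroup of `⟨Q, w, s⟩` -/
abbrev BadW (s : Equiv.Perm (Fin cl.n)) : Prop := BadP (s ^ 3) ∨ BadP ((s * cl.gam 7) ^ 3) ∨ BadP (s * cl.gam 7 * s⁻¹)

theorem cl_y1 : ∀ s ∈ cl.K 0, s ∈ cl.K 3 ∨ s * cl.gam 9 ∈ cl.K 3 ∨ s * (cl.gam 9)⁻¹ ∈ cl.K 3 ∨ BadW s :=
  cl_ok.holds (φ := .all 0 40 [] (.or (.mem 3 (.l 40)) (.or (.mem 3 (.mul (.l 40) (.l 9))) (.or (.mem 3 (.mul (.l 40) (.inv (.l 9)))) (.or (.lt 41 (.pow (.l 40) 3) (.and (.mem 1 (.mul (.l 41) (.l 41))) (.and (.mem 1 (.mul (.mul (.mul (.l 41) (.l 7)) (.inv (.l 41))) (.inv (.l 7)))) (.and (.not (.mem 1 (.l 41))) (.not (.mem 1 (.mul (.l 41) (.l 7)))))))) (.or (.lt 41 (.pow (.mul (.l 40) (.l 7)) 3) (.and (.mem 1 (.mul (.l 41) (.l 41))) (.and (.mem 1 (.mul (.mul (.mul (.l 41) (.l 7)) (.inv (.l 41))) (.inv (.l 7)))) (.and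 (.not (.mem 1 (.l 41))) (.not (.mem 1 (.mul (.l 41) (.l 7)))))))) (.lt 41 (.mul (.mul (.l 40) (.l 7)) (.inv (.l 40))) (.and (.mem 1 (.mul (.l 41) (.l 41))) (.and (.mem 1 (.mul (.mul (.mul (.l 41) (.l 7)) (.inv (.l 41))) (.inv (.l 7)))) (.and (.not (.mem 1 (.l 41))) (.not (.mem 1 (.mul (.l 41) (.l 7)))))))))))))) (by decide +kernel)

theorem cl_y2 : ∀ s ∈ cl.K 0, cl.gam 7 * (s * cl.gam 2 * s⁻¹) = s * cl.gam 2 * s⁻¹ * cl.gam 7 → cl.gam 7 * s * (cl.gam 7)⁻¹ * s⁻¹ * cl.gam 6 ∈ cl.K 1 ∨ cl.gam 7 * s * (cl.gam 7)⁻¹ * s⁻¹ * (cl.gam 6)⁻¹ ∈ cl.K 1 ∨ BadW s :=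
  cl_ok.holds (φ := .all 0 40 [] (.imp (.eq (.mul (.l 7) (.mul (.mul (.l 40) (.l 2)) (.inv (.l 40)))) (.mul (.mul (.mul (.l 40) (.l 2)) (.inv (.l 40))) (.l 7))) (.or (.mem 1 (.mul (.mul (.mul (.mul (.l 7) (.l 40)) (.inv (.l 7))) (.inv (.l 40))) (.l 6))) (.or (.mem 1 (.mul (.mul (.mul (.mul (.l 7) (.l 40)) (.inv (.l 7))) (.inv (.l 40))) (.inv (.l 6)))) (.or (.lt 41 (.pow (.l 40) 3) (.and (.mem 1 (.mul (.l 41) (.l 41))) (.and (.mem 1 (.mul (.mul (.mul (.l 41) (.l 7)) (.inv (.l 41))) (.inv (.l 7)))) (.and (.not (.mem 1 (.l 41))) (.not (.mem 1 (.mul (.l 41) (.l 7)))))))) (.or (.lt 41 (.pow (.mul (.l 40) (.l 7)) 3) (.and (.mem 1 (.mul (.l 41) (.l 41))) (.and (.mem 1 (.mul (.mul (.mul (.l 41) (.l 7)) (.inv (.l 41))) (.inv (.l 7)))) (.and (.not (.mem 1 (.l 41))) (.not (.mem 1 (.mul (.l 41) (.l 7))))))))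 (.lt 41 (.mul (.mul (.l 40) (.l 7)) (.inv (.l 40))) (.and (.mem 1 (.mul (.l 41) (.l 41))) (.and (.mem 1 (.mul (.mul (.mul (.l 41) (.l 7)) (.inv (.l 41))) (.inv (.l 7)))) (.and (.not (.mem 1 (.l 41))) (.not (.mem 1 (.mul (.l 41) (.l 7)))))))))))))) (by decide +kernel)

end Cfsg.Lib.IA
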