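import Cfsg.Agent.Lib.IA.SA
import Cfsg.Agent.Lib.T3.S5

/-! The alternating group of degree 8, relators (generated data, helper10). -/

set_option autoImplicit false
set_option maxRecDepth 1000000
set_option maxHeartbeats 0

namespace Cfsg.Lib.IA

open Cfsg.Lib.Calc Cfsg.Lib.Grp Cfsg.Lib.T2 Cfsg.Lib.T3

/-- relators for `g` -/
def relAg : List W := [.mul (.l 8) (.l 8), .mul (.mul (.mul (.l 8) (.l 5)) (.inv (.l 8))) (.inv (.l 1)), .mul (.mul (.mul (.l 8) (.l 2)) (.inv (.l 8))) (.inv (.l 2)), .mul (.mul (.mul (.l 8) (.l 3)) (.inv (.l 8))) (.inv (.l 7)), .pow (.mul (.l 4) (.l 8)) 3, .pow (.mul (.l 6) (.l 8)) 7, .pow (.mul (.mul (.l 6) (.l 7)) (.l 8)) 6]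

/-- relators for `h` -/
def relAh : List W := [.mul (.l 9) (.l 9), .mul (.mul (.mul (.l 9) (.l 5)) (.inv (.l 9))) (.inv (.l 3)), .mul (.mul (.mul (.l 9) (.l 4)) (.inv (.l 9))) (.inv (.l 4)), .mul (.mul (.mul (.l 9) (.l 1)) (.inv (.l 9))) (.inv (.l 7)), .pow (.mul (.l 2) (.l 9)) 3, .pow (.mul (.l 6) (.l 9)) 7, .pow (.mul (.mul (.l 6) (.l 7)) (.l 9)) 6, .pow (.mul (.l 8) (.l 9)) 2]

/-- relators for `v` -/
def relAv : List W := [.pow (.l 10) 3, .mul (.mul (.mul (.l 10) (.mul (.l 1) (.l 3))) (.inv (.l 10))) (.inv (.mul (.l 1) (.l 3))), .mul (.mul (.mul (.l 10) (.mul (.mul (.l 1) (.l 7)) (.l 5))) (.inv (.l 10))) (.inv (.mul (.mul (.l 1) (.l 7)) (.l 5))), .mul (.mul (.mul (.l 10) (.mul (.mul (.mul (.l 4) (.l 8)) (.l 9)) (.l 2))) (.inv (.l 10))) (.inv (.mul (.mul (.mul (.l 4) (.l 8)) (.l 9)) (.l 2))), .mul (.mul (.mul (.l 10) (.mul (.l 2) (.l 4))) (.inv (.l 10))) (.inv (.mul (.l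 2) (.l 4))), .mul (.mul (.mul (.l 10) (.mul (.mul (.l 6) (.mul (.mul (.l 1) (.l 7)) (.l 5))) (.inv (.l 6)))) (.inv (.l 10))) (.inv (.mul (.mul (.l 6) (.mul (.mul (.l 1) (.l 7)) (.l 5))) (.inv (.l 6)))), .pow (.mul (.mul (.mul (.mul (.mul (.mul (.l 1) (.l 8)) (.l 9)) (.l 2)) (.l 7)) (.l 4)) (.l 10)) 2]

/-- relators of `A₈` -/
def relA8 : List W := relHA ++ relAg ++ relAh

/-- relators of `A₉` -/
def relA9 : List W := relA8 ++ relAv

def ma_L0 : List (ℕ × List ℕ) := [((nat_lit 0), [(nat_lit 16434824), (nat_lit 11788826), (nat_lit 6852524), (nat_lit 11788371), (nat_lit 6823845), (nat_lit 14570689), (nat_lit 571823), (nat_lit 2206526)]),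
  ((nat_lit 2), [(nat_lit 16434824), (nat_lit 3135888), (nat_lit 11156600), (nat_lit 5307120), (nat_lit 8775144), (nat_lit 13967128), (nat_lit 8332128)]),
  ((nat_lit 4), [(nat_lit 16434824), (nat_lit 13000344), (nat_lit 10154648), (nat_lit 10905272), (nat_lit 12467336), (nat_lit 9346736)]),
  ((nat_lit 1), [(nat_lit 16434824), (nat_lit 13093528), (nat_lit 15059632), (nat_lit 3100328), (nat_lit 12109496)]),
  ((nat_lit 3), [(nat_lit 16434824), (nat_lit 13553288), (nat_lit 15682184), (nat_lit 8309896)]),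
  ((nat_lit 5), [(nat_lit 16434824), (nat_lit 12535432), (nat_lit 14141064)])]

def ma_D0 : List ℕ := [(nat_lit 0), (nat_lit 513), (nat_lit 1025), (nat_lit 1537), (nat_lit 2049), (nat_lit 2561), (nat_lit 4097), (nat_lit 192514), (nat_lit 0), (nat_lit 10475779), (nat_lit 13247747), (nat_lit 733509892), (nat_lit 888297732), (nat_lit 1061873924), (nat_lit 1264749828), (nat_lit 0), (nat_lit 1524673796), (nat_lit 256258), (nat_lit 137855172869), (nat_lit 158461593861), (nat_lit 188134036741), (nat_lit 0), (nat_lit 4045896452), (nat_lit 3847722756), (nat_lit 355163967237), (nat_lit 410801303301), (nat_lit 0), (nat_lit 512903226629), (nat_lit 44584609762566), (nat_lit 553031968005), (nat_lit 0), (nat_lit 0x153d0ac9b5f707), (nat_lit 0x1881113d215907)]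

def ma_L1 : List (ℕ × List ℕ) := [((nat_lit 0), [(nat_lit 16434824), (nat_lit 11788826), (nat_lit 6852524), (nat_lit 11788371), (nat_lit 6823845), (nat_lit 14570689), (nat_lit 2206526), (nat_lit 4987255)]),
  ((nat_lit 2), [(nat_lit 16434824), (nat_lit 14526792), (nat_lit 7072520), (nat_lit 11644808), (nat_lit 16405704), (nat_lit 5164488)]),
  ((nat_lit 4), [(nat_lit 16434824), (nat_lit 11789960), (nat_lit 9926280), (nat_lit 14571144)])]

def ma_D1 : List ℕ := [(nat_lit 0), (nat_lit 513), (nat_lit 1025), (nat_lit 1537), (nat_lit 2049), (nat_lit 2561), (nat_lit 130050), (nat_lit 157186), (nat_lit 0), (nat_lit 8988419), (nat_lit 3073), (nat_lit 3329), (nat_lit 569472772), (nat_lit 368642), (nat_lit 0), (nat_lit 21818115), (nat_lit 1037063940), (nat_lit 74771359493)]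

def ma_L2 : List (ℕ × List ℕ) := [((nat_lit 0), [(nat_lit 16434824), (nat_lit 14570689), (nat_lit 11788826), (nat_lit 6852524), (nat_lit 11788371), (nat_lit 4988389), (nat_lit 2206526), (nat_lit 4987255)]),
  ((nat_lit 4), [(nat_lit 16434824), (nat_lit 11789960), (nat_lit 14571144), (nat_lit 9926280)])]

def ma_D2 : List ℕ := [(nat_lit 0), (nat_lit 513), (nat_lit 1025), (nat_lit 1537), (nat_lit 2049), (nat_lit 80386), (nat_lit 99842), (nat_lit 122370), (nat_lit 0), (nat_lit 80642), (nat_lit 3708163), (nat_lit 306038020)]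

def ma_L3 : List (ℕ × List ℕ) := [((nat_lit 0), [(nat_lit 16434824), (nat_lit 11788826), (nat_lit 6852524), (nat_lit 11788371), (nat_lit 6823845), (nat_lit 14570689), (nat_lit 2206526), (nat_lit 2206071)]),
  ((nat_lit 2), [(nat_lit 16434824), (nat_lit 14599368)]),
  ((nat_lit 4), [(nat_lit 16434824), (nat_lit 14571144)])]

def ma_D3 : List ℕ := [(nat_lit 0), (nat_lit 513), (nat_lit 1025), (nat_lit 1537), (nat_lit 2049), (nat_lit 2561), (nat_lit 87042), (nat_lit 120834), (nat_lit 0), (nat_lit 3293443), (nat_lit 0), (nat_lit 4201219)]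

def ma_L4 : List (ℕ × List ℕ) := [((nat_lit 0), [(nat_lit 16434824), (nat_lit 14570689), (nat_lit 11788826), (nat_lit 6852524), (nat_lit 9924691), (nat_lit 4988389), (nat_lit 2206526), (nat_lit 342391)])]

def ma_D4 : List ℕ := [(nat_lit 0), (nat_lit 513), (nat_lit 1025), (nat_lit 1537), (nat_lit 41986), (nat_lit 47618), (nat_lit 62978), (nat_lit 91650)]

def ma_L5 : List (ℕ × List ℕ) := [((nat_lit 0), [(nat_lit 16434824), (nat_lit 14570689), (nat_lit 11788826), (nat_lit 11788371)]),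
  ((nat_lit 4), [(nat_lit 16434824), (nat_lit 11789960), (nat_lit 14571144), (nat_lit 9926280)])]

def ma_D5 : List ℕ := [(nat_lit 0), (nat_lit 513), (nat_lit 1025), (nat_lit 1537), (nat_lit 0), (nat_lit 44290), (nat_lit 1513731), (nat_lit 72577284)]

def ma_L6 : List (ℕ × List ℕ) := [((nat_lit 0), [(nat_lit 16434824), (nat_lit 11788826), (nat_lit 6852524), (nat_lit 11788371), (nat_lit 6823845), (nat_lit 14570689), (nat_lit 2206526), (nat_lit 4987255)]),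
  ((nat_lit 2), [(nat_lit 16434824), (nat_lit 9954504)]),
  ((nat_lit 4), [(nat_lit 16434824), (nat_lit 11789960), (nat_lit 14571144), (nat_lit 9926280)])]

def ma_D6 : List ℕ := [(nat_lit 0), (nat_lit 513), (nat_lit 1025), (nat_lit 1537), (nat_lit 2049), (nat_lit 2561), (nat_lit 107522), (nat_lit 132098), (nat_lit 0), (nat_lit 5790979), (nat_lit 0), (nat_lit 116994), (nat_lit 457670916), (nat_lit 24126287109)]

def ma_L7 : List (ℕ × List ℕ) := [((nat_lit 0), [(nat_lit 16434824), (nat_lit 11788826), (nat_lit 6852524), (nat_lit 11788371), (nat_lit 6823845), (nat_lit 14570689), (nat_lit 571823), (nat_lit 2206526)]),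
  ((nat_lit 2), [(nat_lit 16434824), (nat_lit 11760840), (nat_lit 15946840)]),
  ((nat_lit 4), [(nat_lit 16434824), (nat_lit 14054040), (nat_lit 10441368), (nat_lit 11789960)]),
  ((nat_lit 1), [(nat_lit 16434824), (nat_lit 14598808)]),
  ((nat_lit 5), [(nat_lit 16434824), (nat_lit 14141064), (nat_lit 12535432)])]

def ma_D7 : List ℕ := [(nat_lit 0), (nat_lit 513), (nat_lit 1025), (nat_lit 1537), (nat_lit 2049), (nat_lit 2561), (nat_lit 3585), (nat_lit 164866), (nat_lit 0), (nat_lit 10734339), (nat_lit 11155203), (nat_lit 0), (nat_lit 696413956), (nat_lit 570812676), (nat_lit 49054983941), (nat_lit 0), (nat_lit 1418597124), (nat_lit 0), (nat_lit 31580931), (nat_lit 21127939)]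

def ma_L8 : List (ℕ × List ℕ) := [((nat_lit 0), [(nat_lit 16434824), (nat_lit 16434369), (nat_lit 16433690), (nat_lit 16433235)])]

def ma_D8 : List ℕ := [(nat_lit 0), (nat_lit 513), (nat_lit 1025), (nat_lit 25602)]

def ma_L9 : List (ℕ × List ℕ) := [((nat_lit 0), [(nat_lit 16434824), (nat_lit 16434369), (nat_lit 16433690), (nat_lit 16433235)]),
  ((nat_lit 4), [(nat_lit 16434824), (nat_lit 10413704), (nat_lit 13825672), (nat_lit 10213000)]),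
  ((nat_lit 5), [(nat_lit 16434824), (nat_lit 12535432), (nat_lit 14141064)])]

def ma_D9 : List ℕ := [(nat_lit 0), (nat_lit 513), (nat_lit 1025), (nat_lit 50178), (nat_lit 0), (nat_lit 1537), (nat_lit 1793), (nat_lit 125186), (nat_lit 0), (nat_lit 2049), (nat_lit 2305)]

def ma_L10 : List (ℕ × List ℕ) := [((nat_lit 0), [(nat_lit 16434824), (nat_lit 14570689)]),
  ((nat_lit 4), [(nat_lit 16434824), (nat_lit 14571144)])]

def ma_D10 : List ℕ := [(nat_lit 0), (nat_lit 513), (nat_lit 0), (nat_lit 14594)]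

def ma : PM :=
  ⟨(nat_lit 8), (nat_lit 3), [(nat_lit 11788826), (nat_lit 6852524), (nat_lit 11788371), (nat_lit 6823845), (nat_lit 14570689), (nat_lit 7072520), (nat_lit 9925825), (nat_lit 571823), (nat_lit 2636221)],
    [[.l 1, .l 2, .l 3, .l 4, .l 5, .l 6, .l 7, .l 8, .l 9],
    [.l 1, .l 2, .l 3, .l 4, .l 5, .l 6, .l 7],
    [.l 5, .l 1, .l 2, .l 3, .l 7],
    [.l 1, .l 2, .l 3, .l 4, .l 5],
    [.l 5, .l 1, .l 2],
    [.l 5, .l 1, .l 3, .l 7],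
    [.l 1, .l 2, .l 3, .l 4, .l 5, .l 7],
    [.l 1, .l 2, .l 3, .l 4, .l 5, .l 7, .l 8, .l 9],
    [.mul (.l 1) (.l 3), .mul (.mul (.l 1) (.l 7)) (.l 5)],
    [.mul (.l 1) (.l 3), .mul (.mul (.l 1) (.l 7)) (.l 5), .mul (.mul (.mul (.mul (.mul (.l 1) (.l 8)) (.l 9)) (.l 2)) (.l 7)) (.l 4), .mul (.mul (.mul (.mul (.mul (.l 1) (.l 2)) (.l 3)) (.l 4)) (.l 8)) (.l 9)],
    [.l 5, .mul (.l 1) (.l 3)]],
    [ma_L0, ma_L1, ma_L2, ma_L3, ma_L4, ma_L5, ma_L6, ma_L7, ma_L8, ma_L9, ma_L10], [ma_D0, ma_D1, ma_D2, ma_D3, ma_D4, ma_D5, ma_D6, ma_D7, ma_D8, ma_D9, ma_D10]⟩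

instance ma_ne : NeZero ma.n := ⟨by decide⟩

theorem ma_ok0 : ma.ok0 = true := by decide +kernel

theorem ma_k0 : allFrom (nat_lit 0) (nat_lit 1) ma.okK = true := by decide +kernel

theorem ma_k1 : allFrom (nat_lit 1) (nat_lit 1) ma.okK = true := by decide +kernel

theorem ma_k2 : allFrom (nat_lit 2) (nat_lit 1) ma.okK = true := by decide +kernel

theorem ma_k3 : allFrom (nat_lit 3) (nat_lit 1) ma.okK = true := by decide +kernel

theorem ma_k4 : allFrom (nat_lit 4) (nat_lit 1) ma.okK = true := by decide +kernel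

theorem ma_k5 : allFrom (nat_lit 5) (nat_lit 1) ma.okK = true := by decide +kernel

theorem ma_k6 : allFrom (nat_lit 6) (nat_lit 1) ma.okK = true := by decide +kernel

theorem ma_k7 : allFrom (nat_lit 7) (nat_lit 1) ma.okK = true := by decide +kernel

theorem ma_k8 : allFrom (nat_lit 8) (nat_lit 1) ma.okK = true := by decide +kernel

theorem ma_k9 : allFrom (nat_lit 9) (nat_lit 1) ma.okK = true := by decide +kernel

theorem ma_k10 : allFrom (nat_lit 10) (nat_lit 1) ma.okK = true := by decide +kernel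

theorem ma_ok : ma.OK := PM.OK.of_check ma_ok0
  (of_allFrom_append (of_allFrom_append (of_allFrom_append (of_allFrom_append (of_allFrom_append (of_allFrom_append (of_allFrom_append (of_allFrom_append (of_allFrom_append (of_allFrom_append (of_allFrom_append of_lt_zero ma_k0) ma_k1) ma_k2) ma_k3) ma_k4) ma_k5) ma_k6) ma_k7) ma_k8) ma_k9) ma_k10)

theorem ma_card0 : Nat.card (genW ma.gam (ma.ws 0)) = 20160 := (ma_ok.card 0).trans (by decide +kernel)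

theorem ma_card1 : Nat.card (genW ma.gam (ma.ws 1)) = 192 := (ma_ok.card 1).trans (by decide +kernel)

theorem ma_card2 : Nat.card (genW ma.gam (ma.ws 2)) = 32 := (ma_ok.card 2).trans (by decide +kernel)

theorem ma_card3 : Nat.card (genW ma.gam (ma.ws 3)) = 32 := (ma_ok.card 3).trans (by decide +kernel)

theorem ma_card4 : Nat.card (genW ma.gam (ma.ws 4)) = 8 := (ma_ok.card 4).trans (by decide +kernel)

theorem ma_card5 : Nat.card (genW ma.gam (ma.ws 5)) = 16 := (ma_ok.card 5).trans (by decide +kernel)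

theorem ma_card6 : Nat.card (genW ma.gam (ma.ws 6)) = 64 := (ma_ok.card 6).trans (by decide +kernel)

theorem ma_card7 : Nat.card (genW ma.gam (ma.ws 7)) = 576 := (ma_ok.card 7).trans (by decide +kernel)

theorem ma_card8 : Nat.card (genW ma.gam (ma.ws 8)) = 4 := (ma_ok.card 8).trans (by decide +kernel)

theorem ma_card9 : Nat.card (genW ma.gam (ma.ws 9)) = 48 := (ma_ok.card 9).trans (by decide +kernel)

theorem ma_card10 : Nat.card (genW ma.gam (ma.ws 10)) = 4 := (ma_ok.card 10).trans (by decide +kernel)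

/-- a formula -/
def ma_cls_f : Fm := .all 1 40 [] (.imp (.one (.mul (.l 40) (.l 40))) (.or (.one (.l 40)) (.or (.eq (.l 40) (.l 5)) (.or (.ex 1 41 [(.l 1, .l 40)] (.tt)) (.or (.ex 1 41 [(.l 3, .l 40)] (.tt)) (.or (.ex 1 41 [(.mul (.l 1) (.l 3), .l 40)] (.tt)) (.or (.ex 1 41 [(.l 7, .l 40)] (.tt)) (.ex 1 41 [(.mul (.l 7) (.l 5), .l 40)] (.tt)))))))))

theorem ma_cls_ev : ma.eval ma_cls_f = true := by decide +kernel

theorem ma_cls {G : Type*} [Group G] {γ : ℕ → G} {k : ℕ} {N : List W} (g : Gf ma γ k N)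
    (e : tyB ma k N ma_cls_f = true := by decide +kernel) :
    ∀ e ∈ genW γ (ma.ws 1), e * e = 1 → e = 1 ∨ e = γ 5 ∨ (∃ k ∈ genW γ (ma.ws 1), k * γ 1 = e * k ∧ True) ∨ (∃ k ∈ genW γ (ma.ws 1), k * γ 3 = e * k ∧ True) ∨ (∃ k ∈ genW γ (ma.ws 1), k * (γ 1 * γ 3) = e * k ∧ True) ∨ (∃ k ∈ genW γ (ma.ws 1), k * γ 7 = e * k ∧ True) ∨ (∃ k ∈ genW γ (ma.ws 1), k * (γ 7 * γ 5) = e * k ∧ True) :=
  g.transfer e ma_cls_ev

/-- a formula -/
def ma_clsQ_f : Fm := .all 3 40 [] (.imp (.one (.mul (.l 40) (.l 40))) (.or (.one (.l 40)) (.or (.eq (.l 40) (.l 5)) (.or (.ex 1 41 [(.l 1, .l 40)] (.tt)) (.or (.ex 1 41 [(.l 3, .l 40)] (.tt)) (.ex 1 41 [(.mul (.l 1) (.l 3), .l 40)] (.tt)))))))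

theorem ma_clsQ_ev : ma.eval ma_clsQ_f = true := by decide +kernel

theorem ma_clsQ {G : Type*} [Group G] {γ : ℕ → G} {k : ℕ} {N : List W} (g : Gf ma γ k N)
    (e : tyB ma k N ma_clsQ_f = true := by decide +kernel) :
    ∀ e ∈ genW γ (ma.ws 3), e * e = 1 → e = 1 ∨ e = γ 5 ∨ (∃ k ∈ genW γ (ma.ws 1), k * γ 1 = e * k ∧ True) ∨ (∃ k ∈ genW γ (ma.ws 1), k * γ 3 = e * k ∧ True) ∨ (∃ k ∈ genW γ (ma.ws 1), k * (γ 1 * γ 3) = e * k ∧ True) :=
  g.transfer e ma_clsQ_ev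

/-- a formula -/
def ma_sq_f : Fm := .all 3 40 [] (.or (.one (.mul (.l 40) (.l 40))) (.eq (.mul (.l 40) (.l 40)) (.l 5)))

theorem ma_sq_ev : ma.eval ma_sq_f = true := by decide +kernel

theorem ma_sq {G : Type*} [Group G] {γ : ℕ → G} {k : ℕ} {N : List W} (g : Gf ma γ k N)
    (e : tyB ma k N ma_sq_f = true := by decide +kernel) :
    ∀ q ∈ genW γ (ma.ws 3), q * q = 1 ∨ q * q = γ 5 :=
  g.transfer e ma_sq_ev

/-- a formula -/
def ma_cen_f : Fm := .all 1 40 [(.l 1, .l 1), (.l 2, .l 2), (.l 3, .l 3), (.l 4, .l 4)] (.or (.one (.l 40)) (.eq (.l 40) (.l 5)))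

theorem ma_cen_ev : ma.eval ma_cen_f = true := by decide +kernel

theorem ma_cen {G : Type*} [Group G] {γ : ℕ → G} {k : ℕ} {N : List W} (g : Gf ma γ k N)
    (e : tyB ma k N ma_cen_f = true := by decide +kernel) :
    ∀ e ∈ genW γ (ma.ws 1), e * γ 1 = γ 1 * e → e * γ 2 = γ 2 * e → e * γ 3 = γ 3 * e → e * γ 4 = γ 4 * e → e = 1 ∨ e = γ 5 :=
  g.transfer e ma_cen_ev

/-- a formula -/
def ma_V2_f : Fm := .all 4 40 [] (.one (.mul (.l 40) (.l 40)))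

theorem ma_V2_ev : ma.eval ma_V2_f = true := by decide +kernel

theorem ma_V2 {G : Type*} [Group G] {γ : ℕ → G} {k : ℕ} {N : List W} (g : Gf ma γ k N)
    (e : tyB ma k N ma_V2_f = true := by decide +kernel) :
    ∀ e ∈ genW γ (ma.ws 4), e * e = 1 :=
  g.transfer e ma_V2_ev

/-- a formula -/
def ma_A2_f : Fm := .all 5 40 [] (.one (.mul (.l 40) (.l 40)))

theorem ma_A2_ev : ma.eval ma_A2_f = true := by decide +kernel

theorem ma_A2 {G : Type*} [Group G] {γ : ℕ → G} {k : ℕ} {N : List W} (g : Gf ma γ k N)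
    (e : tyB ma k N ma_A2_f = true := by decide +kernel) :
    ∀ e ∈ genW γ (ma.ws 5), e * e = 1 :=
  g.transfer e ma_A2_ev

/-- a formula -/
def ma_W2_f : Fm := .all 8 40 [] (.one (.mul (.l 40) (.l 40)))

theorem ma_W2_ev : ma.eval ma_W2_f = true := by decide +kernel

theorem ma_W2 {G : Type*} [Group G] {γ : ℕ → G} {k : ℕ} {N : List W} (g : Gf ma γ k N)
    (e : tyB ma k N ma_W2_f = true := by decide +kernel) :
    ∀ e ∈ genW γ (ma.ws 8), e * e = 1 :=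
  g.transfer e ma_W2_ev

/-- a formula -/
def ma_Y_f : Fm := .all 1 40 [(.l 1, .l 1)] (.mem 2 (.l 40))

theorem ma_Y_ev : ma.eval ma_Y_f = true := by decide +kernel

theorem ma_Y {G : Type*} [Group G] {γ : ℕ → G} {k : ℕ} {N : List W} (g : Gf ma γ k N)
    (e : tyB ma k N ma_Y_f = true := by decide +kernel) :
    ∀ e ∈ genW γ (ma.ws 1), e * γ 1 = γ 1 * e → e ∈ genW γ (ma.ws 2) :=
  g.transfer e ma_Y_ev

/-- a formula -/
def ma_ZY_f : Fm := .all 1 40 [(.l 1, .l 1), (.l 2, .l 2), (.l 3, .l 3), (.l 7, .l 7)] (.or (.one (.l 40)) (.or (.eq (.l 40) (.l 5)) (.or (.eq (.l 40) (.l 1)) (.eq (.l 40) (.mul (.l 1) (.l 5))))))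

theorem ma_ZY_ev : ma.eval ma_ZY_f = true := by decide +kernel

theorem ma_ZY {G : Type*} [Group G] {γ : ℕ → G} {k : ℕ} {N : List W} (g : Gf ma γ k N)
    (e : tyB ma k N ma_ZY_f = true := by decide +kernel) :
    ∀ e ∈ genW γ (ma.ws 1), e * γ 1 = γ 1 * e → e * γ 2 = γ 2 * e → e * γ 3 = γ 3 * e → e * γ 7 = γ 7 * e → e = 1 ∨ e = γ 5 ∨ e = γ 1 ∨ e = γ 1 * γ 5 :=
  g.transfer e ma_ZY_ev

/-- a formula -/
def ma_CV_f : Fm := .all 1 40 [(.l 1, .l 1), (.l 2, .l 2)] (.mem 4 (.l 40))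

theorem ma_CV_ev : ma.eval ma_CV_f = true := by decide +kernel

theorem ma_CV {G : Type*} [Group G] {γ : ℕ → G} {k : ℕ} {N : List W} (g : Gf ma γ k N)
    (e : tyB ma k N ma_CV_f = true := by decide +kernel) :
    ∀ e ∈ genW γ (ma.ws 1), e * γ 1 = γ 1 * e → e * γ 2 = γ 2 * e → e ∈ genW γ (ma.ws 4) :=
  g.transfer e ma_CV_ev

/-- a formula -/
def ma_CA_f : Fm := .all 1 40 [(.l 1, .l 1), (.l 3, .l 3), (.l 7, .l 7)] (.mem 5 (.l 40))

theorem ma_CA_ev : ma.eval ma_CA_f = true := by decide +kernel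

theorem ma_CA {G : Type*} [Group G] {γ : ℕ → G} {k : ℕ} {N : List W} (g : Gf ma γ k N)
    (e : tyB ma k N ma_CA_f = true := by decide +kernel) :
    ∀ e ∈ genW γ (ma.ws 1), e * γ 1 = γ 1 * e → e * γ 3 = γ 3 * e → e * γ 7 = γ 7 * e → e ∈ genW γ (ma.ws 5) :=
  g.transfer e ma_CA_ev

/-- a formula -/
def ma_nc_f : Fm := .all 1 40 [] (.and (.not (.eq (.mul (.l 40) (.l 3)) (.mul (.l 7) (.l 40)))) (.and (.not (.eq (.mul (.l 40) (.mul (.l 1) (.l 3))) (.mul (.mul (.l 5) (.l 7)) (.l 40)))) (.not (.eq (.mul (.l 40) (.l 1)) (.mul (.mul (.l 5) (.l 3)) (.l 40))))))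

theorem ma_nc_ev : ma.eval ma_nc_f = true := by decide +kernel

theorem ma_nc {G : Type*} [Group G] {γ : ℕ → G} {k : ℕ} {N : List W} (g : Gf ma γ k N)
    (e : tyB ma k N ma_nc_f = true := by decide +kernel) :
    ∀ e ∈ genW γ (ma.ws 1), e * γ 3 ≠ γ 7 * e ∧ e * (γ 1 * γ 3) ≠ γ 5 * γ 7 * e ∧ e * γ 1 ≠ γ 5 * γ 3 * e :=
  g.transfer e ma_nc_ev

/-- a formula -/
def ma_V7_f : Fm := .all 4 40 [(.mul (.l 6) (.l 8), .mul (.l 6) (.l 8))] (.one (.l 40))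

theorem ma_V7_ev : ma.eval ma_V7_f = true := by decide +kernel

theorem ma_V7 {G : Type*} [Group G] {γ : ℕ → G} {k : ℕ} {N : List W} (g : Gf ma γ k N)
    (e : tyB ma k N ma_V7_f = true := by decide +kernel) :
    ∀ e ∈ genW γ (ma.ws 4), e * (γ 6 * γ 8) = γ 6 * γ 8 * e → e = 1 :=
  g.transfer e ma_V7_ev

/-- a formula -/
def ma_gh_f : Fm := .all 5 40 [(.l 8, .l 8), (.mul (.l 8) (.l 9), .mul (.l 8) (.l 9))] (.or (.one (.l 40)) (.eq (.l 40) (.mul (.mul (.mul (.l 5) (.l 1)) (.l 3)) (.l 7))))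

theorem ma_gh_ev : ma.eval ma_gh_f = true := by decide +kernel

theorem ma_gh {G : Type*} [Group G] {γ : ℕ → G} {k : ℕ} {N : List W} (g : Gf ma γ k N)
    (e : tyB ma k N ma_gh_f = true := by decide +kernel) :
    ∀ e ∈ genW γ (ma.ws 5), e * γ 8 = γ 8 * e → e * (γ 8 * γ 9) = γ 8 * γ 9 * e → e = 1 ∨ e = γ 5 * γ 1 * γ 3 * γ 7 :=
  g.transfer e ma_gh_ev

/-- a formula -/
def ma_NA_f : Fm := .all 1 40 [] (.imp (.mem 5 (.mul (.mul (.l 40) (.l 7)) (.inv (.l 40)))) (.mem 6 (.l 40)))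

theorem ma_NA_ev : ma.eval ma_NA_f = true := by decide +kernel

theorem ma_NA {G : Type*} [Group G] {γ : ℕ → G} {k : ℕ} {N : List W} (g : Gf ma γ k N)
    (e : tyB ma k N ma_NA_f = true := by decide +kernel) :
    ∀ e ∈ genW γ (ma.ws 1), e * γ 7 * e⁻¹ ∈ genW γ (ma.ws 5) → e ∈ genW γ (ma.ws 6) :=
  g.transfer e ma_NA_ev

/-- a formula -/
def ma_T_f : Fm := .all 1 40 [(.mul (.l 1) (.l 3), .mul (.l 1) (.l 3))] (.all 1 41 [(.mul (.l 1) (.l 3), .mul (.l 1) (.l 3)), (.l 40, .l 40)] (.imp (.one (.mul (.l 40) (.l 40))) (.imp (.one (.mul (.l 41) (.l 41))) (.or (.mem 5 (.l 40)) (.or (.mem 10 (.l 41)) (.mem 10 (.mul (.l 40) (.l 41))))))))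

theorem ma_T_ev : ma.eval ma_T_f = true := by decide +kernel

theorem ma_T {G : Type*} [Group G] {γ : ℕ → G} {k : ℕ} {N : List W} (g : Gf ma γ k N)
    (e : tyB ma k N ma_T_f = true := by decide +kernel) :
    ∀ p ∈ genW γ (ma.ws 1), p * (γ 1 * γ 3) = γ 1 * γ 3 * p → ∀ r ∈ genW γ (ma.ws 1), r * (γ 1 * γ 3) = γ 1 * γ 3 * r → r * p = p * r → p * p = 1 → r * r = 1 → p ∈ genW γ (ma.ws 5) ∨ r ∈ genW γ (ma.ws 10) ∨ p * r ∈ genW γ (ma.ws 10) :=
  g.transfer e ma_T_ev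

/-- a formula -/
def ma_nze_f : Fm := .all 7 40 [(.l 5, .mul (.l 1) (.l 3))] (.not (.tt))

theorem ma_nze_ev : ma.eval ma_nze_f = true := by decide +kernel

theorem ma_nze {G : Type*} [Group G] {γ : ℕ → G} {k : ℕ} {N : List W} (g : Gf ma γ k N)
    (e : tyB ma k N ma_nze_f = true := by decide +kernel) :
    ∀ e ∈ genW γ (ma.ws 7), e * γ 5 = γ 1 * γ 3 * e → ¬ True :=
  g.transfer e ma_nze_ev

/-- a formula -/
def ma_CW_f : Fm := .all 1 40 [(.mul (.l 1) (.l 3), .mul (.l 1) (.l 3)), (.mul (.mul (.l 1) (.l 7)) (.l 5), .mul (.mul (.l 1) (.l 7)) (.l 5))] (.mem 5 (.l 40))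

theorem ma_CW_ev : ma.eval ma_CW_f = true := by decide +kernel

theorem ma_CW {G : Type*} [Group G] {γ : ℕ → G} {k : ℕ} {N : List W} (g : Gf ma γ k N)
    (e : tyB ma k N ma_CW_f = true := by decide +kernel) :
    ∀ e ∈ genW γ (ma.ws 1), e * (γ 1 * γ 3) = γ 1 * γ 3 * e → e * (γ 1 * γ 7 * γ 5) = γ 1 * γ 7 * γ 5 * e → e ∈ genW γ (ma.ws 5) :=
  g.transfer e ma_CW_ev

/-- a formula -/
def ma_W_f : Fm := .all 8 40 [] (.or (.one (.l 40)) (.or (.ex 7 41 [(.mul (.l 1) (.l 3), .mul (.l 40) (.l 5))] (.tt)) (.ex 7 41 [(.l 5, .mul (.mul (.l 40) (.l 5)) (.mul (.l 1) (.l 3)))] (.tt))))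

theorem ma_W_ev : ma.eval ma_W_f = true := by decide +kernel

theorem ma_W {G : Type*} [Group G] {γ : ℕ → G} {k : ℕ} {N : List W} (g : Gf ma γ k N)
    (e : tyB ma k N ma_W_f = true := by decide +kernel) :
    ∀ e ∈ genW γ (ma.ws 8), e = 1 ∨ (∃ k ∈ genW γ (ma.ws 7), k * (γ 1 * γ 3) = e * γ 5 * k ∧ True) ∨ (∃ k ∈ genW γ (ma.ws 7), k * γ 5 = e * γ 5 * (γ 1 * γ 3) * k ∧ True) :=
  g.transfer e ma_W_ev

/-- a formula -/
def ma_tr_f : Fm := .all 5 40 [] (.or (.mem 8 (.l 40)) (.ex 9 41 [] (.mem 8 (.mul (.mul (.mul (.l 41) (.l 40)) (.inv (.l 41))) (.l 5)))))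

theorem ma_tr_ev : ma.eval ma_tr_f = true := by decide +kernel

theorem ma_tr {G : Type*} [Group G] {γ : ℕ → G} {k : ℕ} {N : List W} (g : Gf ma γ k N)
    (e : tyB ma k N ma_tr_f = true := by decide +kernel) :
    ∀ y ∈ genW γ (ma.ws 5), y ∈ genW γ (ma.ws 8) ∨ (∃ k ∈ genW γ (ma.ws 9), k * y * k⁻¹ * γ 5 ∈ genW γ (ma.ws 8)) :=
  g.transfer e ma_tr_ev

/-- a formula -/
def ma_ty_f : Fm := .all 5 40 [] (.or (.one (.l 40)) (.or (.ex 7 41 [(.mul (.l 1) (.l 3), .l 40)] (.tt)) (.or (.ex 7 41 [(.l 5, .mul (.l 40) (.mul (.l 1) (.l 3)))] (.tt)) (.ex 7 41 [(.l 5, .mul (.l 40) (.mul (.mul (.l 1) (.l 7)) (.l 5)))] (.tt)))))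

theorem ma_ty_ev : ma.eval ma_ty_f = true := by decide +kernel

theorem ma_ty {G : Type*} [Group G] {γ : ℕ → G} {k : ℕ} {N : List W} (g : Gf ma γ k N)
    (e : tyB ma k N ma_ty_f = true := by decide +kernel) :
    ∀ y ∈ genW γ (ma.ws 5), y = 1 ∨ (∃ k ∈ genW γ (ma.ws 7), k * (γ 1 * γ 3) = y * k ∧ True) ∨ (∃ k ∈ genW γ (ma.ws 7), k * γ 5 = y * (γ 1 * γ 3) * k ∧ True) ∨ (∃ k ∈ genW γ (ma.ws 7), k * γ 5 = y * (γ 1 * γ 7 * γ 5) * k ∧ True) :=
  g.transfer e ma_ty_ev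

/-- a formula -/
def ma_in_f : Fm := .all 0 40 [(.mul (.l 1) (.l 3), .mul (.l 1) (.l 3))] (.imp (.one (.mul (.l 40) (.l 40))) (.or (.one (.l 40)) (.or (.eq (.l 40) (.mul (.l 1) (.l 3))) (.or (.eq (.l 40) (.mul (.mul (.l 1) (.l 7)) (.l 5))) (.or (.eq (.l 40) (.mul (.mul (.l 1) (.l 3)) (.mul (.mul (.l 1) (.l 7)) (.l 5)))) (.or (.ex 0 41 [(.l 5, .l 40)] (.tt)) (.or (.ex 0 41 [(.l 5, .mul (.l 40) (.mul (.l 1) (.l 3)))] (.tt)) (.ex 0 41 [(.mul (.l 1) (.l 3), .mul (.l 1) (.l 3)), (.l 40, .mul (.l 2) (.l 4))] (.tt)))))))))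

theorem ma_in_ev : ma.eval ma_in_f = true := by decide +kernel

theorem ma_in {G : Type*} [Group G] {γ : ℕ → G} {k : ℕ} {N : List W} (g : Gf ma γ k N)
    (e : tyB ma k N ma_in_f = true := by decide +kernel) :
    ∀ y ∈ genW γ (ma.ws 0), y * (γ 1 * γ 3) = γ 1 * γ 3 * y → y * y = 1 → y = 1 ∨ y = γ 1 * γ 3 ∨ y = γ 1 * γ 7 * γ 5 ∨ y = γ 1 * γ 3 * (γ 1 * γ 7 * γ 5) ∨ (∃ k ∈ genW γ (ma.ws 0), k * γ 5 = y * k ∧ True) ∨ (∃ k ∈ genW γ (ma.ws 0), k * γ 5 = y * (γ 1 * γ 3) * k ∧ True) ∨ (∃ k ∈ genW γ (ma.ws 0), k * (γ 1 * γ 3) = γ 1 * γ 3 * k ∧ k * y = γ 2 * γ 4 * k ∧ True) :=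
  g.transfer e ma_in_ev

/-- a formula -/
def ma_w_f : Fm := .all 1 40 [(.mul (.l 1) (.l 3), .mul (.l 1) (.l 3))] (.imp (.one (.mul (.l 40) (.l 40))) (.or (.one (.l 40)) (.or (.ex 0 41 [(.l 5, .l 40)] (.tt)) (.or (.ex 0 41 [(.l 5, .mul (.l 40) (.mul (.l 1) (.l 3)))] (.tt)) (.or (.ex 0 41 [(.l 5, .mul (.mul (.l 40) (.l 5)) (.mul (.l 1) (.l 3)))] (.tt)) (.and (.ex 0 41 [(.mul (.l 1) (.l 3), .mul (.l 40) (.l 5))] (.tt)) (.and (.not (.eq (.mul (.l 40) (.l 5)) (.mul (.mul (.l 1) (.l 7)) (.l 5)))) (.not (.eq (.mul (.l 40) (.l 5)) (.mul (.mul (.l 1) (.l 3)) (.mul (.mul (.l 1) (.l 7)) (.l 5))))))))))))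

theorem ma_w_ev : ma.eval ma_w_f = true := by decide +kernel

theorem ma_w {G : Type*} [Group G] {γ : ℕ → G} {k : ℕ} {N : List W} (g : Gf ma γ k N)
    (e : tyB ma k N ma_w_f = true := by decide +kernel) :
    ∀ e ∈ genW γ (ma.ws 1), e * (γ 1 * γ 3) = γ 1 * γ 3 * e → e * e = 1 → e = 1 ∨ (∃ k ∈ genW γ (ma.ws 0), k * γ 5 = e * k ∧ True) ∨ (∃ k ∈ genW γ (ma.ws 0), k * γ 5 = e * (γ 1 * γ 3) * k ∧ True) ∨ (∃ k ∈ genW γ (ma.ws 0), k * γ 5 = e * γ 5 * (γ 1 * γ 3) * k ∧ True) ∨ (∃ k ∈ genW γ (ma.ws 0), k * (γ 1 * γ 3) = e * γ 5 * k ∧ True) ∧ e * γ 5 ≠ γ 1 * γ 7 * γ 5 ∧ e * γ 5 ≠ γ 1 * γ 3 * (γ 1 * γ 7 * γ 5) :=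
  g.transfer e ma_w_ev

/-- a formula -/
def ma_cls0_f : Fm := .all 1 40 [] (.imp (.one (.mul (.l 40) (.l 40))) (.or (.one (.l 40)) (.or (.ex 0 41 [(.l 5, .l 40)] (.tt)) (.ex 0 41 [(.mul (.l 1) (.l 3), .l 40)] (.tt)))))

theorem ma_cls0_ev : ma.eval ma_cls0_f = true := by decide +kernel

theorem ma_cls0 {G : Type*} [Group G] {γ : ℕ → G} {k : ℕ} {N : List W} (g : Gf ma γ k N)
    (e : tyB ma k N ma_cls0_f = true := by decide +kernel) :
    ∀ e ∈ genW γ (ma.ws 1), e * e = 1 → e = 1 ∨ (∃ k ∈ genW γ (ma.ws 0), k * γ 5 = e * k ∧ True) ∨ (∃ k ∈ genW γ (ma.ws 0), k * (γ 1 * γ 3) = e * k ∧ True) :=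
  g.transfer e ma_cls0_ev

/-- a formula -/
def ma_aut_f : Fm := .all 2 40 [] (.imp (.one (.mul (.l 40) (.l 40))) (.all 2 41 [] (.imp (.one (.mul (.l 41) (.l 41))) (.imp (.eq (.pow (.mul (.l 40) (.l 41)) 2) (.l 1)) (.all 2 42 [(.l 40, .mul (.l 5) (.l 40)), (.l 41, .l 41)] (.imp (.one (.mul (.l 42) (.l 42))) (.imp (.and (.imp (.one (.mul (.l 7) (.l 41))) (.one (.mul (.l 42) (.l 3)))) (.and (.imp (.eq (.mul (.l 7) (.l 41)) (.l 5)) (.eq (.mul (.l 42) (.l 3)) (.l 1))) (.and (.imp (.eq (.mul (.l 7) (.l 41)) (.l 1)) (.eq (.mul (.l 42) (.l 3)) (.l 5))) (.imp (.eq (.mul (.l 7) (.l 41)) (.mul (.l 1) (.l 5))) (.eq (.mul (.l 42) (.l 3)) (.mul (.l 5) (.l 1))))))) (.or (.ex 2 43 [(.l 40, .l 2), (.l 41, .l 7), (.l 42, .l 3)] (.tt)) (.ex 2 43 [(.l 40, .l 2), (.l 41, .mul (.l 7) (.l 5)), (.l 42, .mul (.l 3) (.l 1))] (.tt))))))))))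

theorem ma_aut_ev : ma.eval ma_aut_f = true := by decide +kernel

theorem ma_aut {G : Type*} [Group G] {γ : ℕ → G} {k : ℕ} {N : List W} (g : Gf ma γ k N)
    (e : tyB ma k N ma_aut_f = true := by decide +kernel) :
    ∀ p ∈ genW γ (ma.ws 2), p * p = 1 → ∀ q ∈ genW γ (ma.ws 2), q * q = 1 → (p * q) ^ 2 = γ 1 → ∀ r ∈ genW γ (ma.ws 2), r * p = γ 5 * p * r → r * q = q * r → r * r = 1 → (γ 7 * q = 1 → r * γ 3 = 1) ∧ (γ 7 * q = γ 5 → r * γ 3 = γ 1) ∧ (γ 7 * q = γ 1 → r * γ 3 = γ 5) ∧ (γ 7 * q = γ 1 * γ 5 → r * γ 3 = γ 5 * γ 1) → (∃ y ∈ genW γ (ma.ws 2), y * p = γ 2 * y ∧ y * q = γ 7 * y ∧ y * r = γ 3 * y ∧ True) ∨ (∃ y ∈ genW γ (ma.ws 2), y * p = γ 2 * y ∧ y * q = γ 7 * γ 5 * y ∧ y * r = γ 3 * γ 1 * y ∧ True) :=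
  g.transfer e ma_aut_ev

theorem s5_d : ∀ p ∈ genW s5.gam (s5.ws 0), p ^ 3 = 1 → p ≠ 1 → ∀ q ∈ genW s5.gam (s5.ws 0), q ^ 3 = 1 → (p * q) ^ 2 = 1 → p * q ≠ 1 → ∃ y ∈ genW s5.gam (s5.ws 0), y ^ 3 = 1 ∧ (p * y) ^ 2 = 1 ∧ (q * y) ^ 2 = 1 ∧ (∀ e ∈ genW s5.gam (s5.ws 0), e ^ 3 = 1 → (p * e) ^ 2 = 1 → (q * e) ^ 2 = 1 → e = y) :=
  s5_ok.holds (φ := .all 0 40 [] (.imp (.one (.pow (.l 40) 3)) (.imp (.not (.one (.l 40))) (.all 0 41 [] (.imp (.one (.pow (.l 41) 3)) (.imp (.one (.pow (.mul (.l 40) (.l 41)) 2)) (.imp (.not (.one (.mul (.l 40) (.l 41)))) (.ex 0 42 [] (.and (.one (.pow (.l 42) 3)) (.and (.one (.pow (.mul (.l 40) (.l 42)) 2)) (.and (.one (.pow (.mul (.l 41) (.l 42)) 2)) (.all 0 43 [] (.imp (.one (.pow (.l 43) 3)) (.imp (.one (.pow (.mul (.l 40) (.l 43)) 2)) (.imp (.one (.pow (.mul (.l 41) (.l 43)) 2)) (.eq (.l 43) (.l 42))))))))))))))))) (by decide +kernel)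

end Cfsg.Lib.IA
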