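import Cfsg.Agent.Lib.IA.Cl

/-! The Sylow 2-subgroup of `A₈` (generated data, helper10). -/

set_option autoImplicit false
set_option maxRecDepth 1000000
set_option maxHeartbeats 0

namespace Cfsg.Lib.IA

open Cfsg.Lib.Calc Cfsg.Lib.Grp Cfsg.Lib.T2 Cfsg.Lib.T3

/-- relators of the Sylow subgroup -/
def relSy : List W := relQ ++ relA ++ [.mul (.l 7) (.l 7)]

/-- inverse letters -/
def tcSy_iv : ℕ := 247132686368

/-- inverse letters -/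
def tcSy_labs : List W := [.l 0, .l 1, .l 2, .l 3, .l 4, .l 5, .l 0, .l 7]

def tcSy_F : Tr := .leaf (nat_lit 0x2491452cb1c70c328a2081861040823ce000)
def tcSy_T : Tr := .leaf (nat_lit 2)
def tcSy_P : Tr := .leaf (nat_lit 0xff800ff800ff800ff800ff800ff800ff800ff800ff800ff800ff800ff800ff800ff800ff800ff800ff800ff800ff800ff800ff800ff800ff800ff800ff800ff800ff82122c180106820a1c180105821a0c008381090600418082830020a)
def tcSy_N_0 : Tr := .node (.node (.node (.node (.leaf (nat_lit 66625))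
  (.leaf (nat_lit 6150)))
  (.leaf (nat_lit 33)))
  (.node (.leaf (nat_lit 167075))
  (.leaf (nat_lit 132))))
  (.node (.node (.node (.leaf (nat_lit 5375105))
  (.leaf (nat_lit 0)))
  (.leaf (nat_lit 2050)))
  (.node (.leaf (nat_lit 105575))
  (.leaf (nat_lit 165))))
def tcSy_N_1 : Tr := .node (.node (.node (.node (.leaf (nat_lit 133250))
  (.leaf (nat_lit 231)))
  (.leaf (nat_lit 66)))
  (.node (.leaf (nat_lit 39975))
  (.leaf (nat_lit 4100))))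
  (.node (.node (.leaf (nat_lit 165025))
  (.leaf (nat_lit 99)))
  (.node (.leaf (nat_lit 171175))
  (.leaf (nat_lit 198))))
def tcSy_N_2 : Tr := .node (.node (.node (.node (.leaf (nat_lit 99425))
  (.leaf (nat_lit 231)))
  (.leaf (nat_lit 1025)))
  (.node (.leaf (nat_lit 168100))
  (.leaf (nat_lit 132))))
  (.node (.node (.node (.leaf (nat_lit 5343330))
  (.leaf (nat_lit 0)))
  (.leaf (nat_lit 99)))
  (.node (.leaf (nat_lit 3284103))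
  (.leaf (nat_lit 5125))))
def tcSy_N_3 : Tr := .node (.node (.node (.node (.leaf (nat_lit 134275))
  (.leaf (nat_lit 7175)))
  (.leaf (nat_lit 66)))
  (.node (.leaf (nat_lit 1121351))
  (.leaf (nat_lit 165))))
  (.node (.node (.leaf (nat_lit 166050))
  (.leaf (nat_lit 3075)))
  (.node (.leaf (nat_lit 33))
  (.leaf (nat_lit 198))))
def tcSy_N : Tr := .node (.node tcSy_N_0
  tcSy_N_1)
  (.node tcSy_N_2
  tcSy_N_3)
noncomputable def tcSy : TC :=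
  ⟨[.l 0, .l 1, .l 2, .l 3, .l 4, .l 5, .l 6, .l 7],
    (nat_lit 1), (nat_lit 7), (nat_lit 247132686368), (nat_lit 63), (nat_lit 2), (nat_lit 5), (nat_lit 32), (nat_lit 1), (nat_lit 38),
    get (nat_lit 10) (nat_lit 0x1003010030080400c02010030080400c02010030080400c02010030080401404014040100401004014050100401004), Tr.get tcSy_N, get (nat_lit 20) (nat_lit 0x3ff003ff003ff003ff003ff003ff003ff003ff003ff003ff003ff003ff003ff003ff003ff003ff003ff003ff003ff003ff003ff003ff003ff000130001200011000100000f0000e0000d0000c0000b0000a0000900008000070000600005),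
    Tr.get3 tcSy_F (nat_lit 12) (nat_lit 6), Tr.get3 tcSy_T (nat_lit 1) (nat_lit 9), Tr.get tcSy_P⟩

theorem tcSy_head : tcSy.headOK relSy tcSy_iv = true := by decide +kernel

theorem tcSy_b0 : allFrom (nat_lit 0) (nat_lit 1) tcSy.blockOK = true := by decide +kernel

def tcSy_Q7 : Tr := .leaf (nat_lit 14)
theorem tcSy_f7_0 : allFrom (nat_lit 0) (nat_lit 2) (tcSy.finOK (nat_lit 2) (Tr.get3 tcSy_Q7 (nat_lit 2) (nat_lit 8)) (nat_lit 7)) = true := by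
  decide +kernel

def tcSy_Q5 : Tr := .leaf (nat_lit 588)
theorem tcSy_f5_0 : allFrom (nat_lit 0) (nat_lit 2) (tcSy.finOK (nat_lit 2) (Tr.get3 tcSy_Q5 (nat_lit 5) (nat_lit 7)) (nat_lit 5)) = true := by
  decide +kernel

def tcSy_Q4 : Tr := .leaf (nat_lit 714)
theorem tcSy_f4_0 : allFrom (nat_lit 0) (nat_lit 2) (tcSy.finOK (nat_lit 2) (Tr.get3 tcSy_Q4 (nat_lit 5) (nat_lit 7)) (nat_lit 4)) = true := by
  decide +kernel

def tcSy_Q3 : Tr := .leaf (nat_lit 520)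
theorem tcSy_f3_0 : allFrom (nat_lit 0) (nat_lit 2) (tcSy.finOK (nat_lit 2) (Tr.get3 tcSy_Q3 (nat_lit 5) (nat_lit 7)) (nat_lit 3)) = true := by
  decide +kernel

def tcSy_Q2 : Tr := .leaf (nat_lit 646)
theorem tcSy_f2_0 : allFrom (nat_lit 0) (nat_lit 2) (tcSy.finOK (nat_lit 2) (Tr.get3 tcSy_Q2 (nat_lit 5) (nat_lit 7)) (nat_lit 2)) = true := by
  decide +kernel

def tcSy_Q1 : Tr := .leaf (nat_lit 228)
theorem tcSy_f1_0 : allFrom (nat_lit 0) (nat_lit 2) (tcSy.finOK (nat_lit 2) (Tr.get3 tcSy_Q1 (nat_lit 4) (nat_lit 7)) (nat_lit 1)) = true := by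
  decide +kernel

theorem tcSy_blocks : ∀ t < tcSy.k, tcSy.blockOK t = true :=
  (of_allFrom_append of_lt_zero tcSy_b0)

/-- index 2 max 2 total 2 facts 12 | needed cosets 2 facts 12 steps 17 trivial 0 -/
theorem tcSy_index {G : Type*} [Group G] {γ : ℕ → G} (hL : Lab γ tcSy_iv) (hr : ∀ t ∈ relSy, t.ev γ = 1) {K : Subgroup G}
    (hK : ∀ t ∈ ([.l 1, .l 2, .l 3, .l 4, .l 5] : List W), t.ev γ ∈ K) :
    K.relIndex (genW γ [.l 1, .l 2, .l 3, .l 4, .l 5, .l 7]) ≠ 0 ∧ K.relIndex (genW γ [.l 1, .l 2, .l 3, .l 4, .l 5, .l 7]) ≤ 2 :=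
  TC.relIndex_le (D := tcSy) (gens := [1, 2, 3, 4, 5, 7]) hL (List.forall_mem_cons.2 ⟨hL.zero_mem K, hK⟩) hr tcSy_head tcSy_blocks (by decide) (by decide)
   (List.forall_mem_cons.2 ⟨⟨_, (of_allFrom_append of_lt_zero tcSy_f1_0)⟩,
    List.forall_mem_cons.2 ⟨⟨_, (of_allFrom_append of_lt_zero tcSy_f2_0)⟩,
    List.forall_mem_cons.2 ⟨⟨_, (of_allFrom_append of_lt_zero tcSy_f3_0)⟩,
    List.forall_mem_cons.2 ⟨⟨_, (of_allFrom_append of_lt_zero tcSy_f4_0)⟩,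
    List.forall_mem_cons.2 ⟨⟨_, (of_allFrom_append of_lt_zero tcSy_f5_0)⟩,
    List.forall_mem_cons.2 ⟨⟨_, (of_allFrom_append of_lt_zero tcSy_f7_0)⟩,
    fun _ h => absurd h List.not_mem_nil⟩⟩⟩⟩⟩⟩)

theorem tcSy_idx {G : Type*} [Group G] {γ : ℕ → G} (h0 : γ 0 = 1) (hr : ∀ t ∈ relSy, t.ev γ = 1) {K : Subgroup G}
    (hK : ∀ t ∈ ([.l 1, .l 2, .l 3, .l 4, .l 5] : List W), t.ev γ ∈ K) :
    K.relIndex (genW γ [.l 1, .l 2, .l 3, .l 4, .l 5, .l 7]) ≠ 0 ∧ K.relIndex (genW γ [.l 1, .l 2, .l 3, .l 4, .l 5, .l 7]) ≤ 2 := by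
  have a := lab_of_rels h0 hr (iv := tcSy_iv) (labs := tcSy_labs) (by decide +kernel)
  have b := tcSy_index a.1 a.2 (mems_fix (by decide +kernel) hK)
  rwa [genW_fix (by decide +kernel)] at b

def s6_L0 : List (ℕ × List ℕ) := [((nat_lit 0), [(nat_lit 16434824), (nat_lit 11788826), (nat_lit 6852524), (nat_lit 11788371), (nat_lit 6823845), (nat_lit 14570689), (nat_lit 2206526), (nat_lit 4987255)]),
  ((nat_lit 2), [(nat_lit 16434824), (nat_lit 9954504)]),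
  ((nat_lit 4), [(nat_lit 16434824), (nat_lit 11789960), (nat_lit 14571144), (nat_lit 9926280)])]

def s6_D0 : List ℕ := [(nat_lit 0), (nat_lit 513), (nat_lit 1025), (nat_lit 1537), (nat_lit 2049), (nat_lit 2561), (nat_lit 107522), (nat_lit 132098), (nat_lit 0), (nat_lit 5790979), (nat_lit 0), (nat_lit 116994), (nat_lit 457670916), (nat_lit 24126287109)]

def s6_L1 : List (ℕ × List ℕ) := [((nat_lit 0), [(nat_lit 16434824), (nat_lit 11788826), (nat_lit 6852524), (nat_lit 11788371), (nat_lit 6823845), (nat_lit 14570689), (nat_lit 2206526), (nat_lit 2206071)]),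
  ((nat_lit 2), [(nat_lit 16434824), (nat_lit 14599368)]),
  ((nat_lit 4), [(nat_lit 16434824), (nat_lit 14571144)])]

def s6_D1 : List ℕ := [(nat_lit 0), (nat_lit 513), (nat_lit 1025), (nat_lit 1537), (nat_lit 2049), (nat_lit 2561), (nat_lit 87042), (nat_lit 120834), (nat_lit 0), (nat_lit 3293443), (nat_lit 0), (nat_lit 4201219)]

def s6_L2 : List (ℕ × List ℕ) := [((nat_lit 0), [(nat_lit 16434824), (nat_lit 14570689), (nat_lit 11788826), (nat_lit 11788371)]),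
  ((nat_lit 4), [(nat_lit 16434824), (nat_lit 11789960), (nat_lit 14571144), (nat_lit 9926280)])]

def s6_D2 : List ℕ := [(nat_lit 0), (nat_lit 513), (nat_lit 1025), (nat_lit 1537), (nat_lit 0), (nat_lit 44290), (nat_lit 1513731), (nat_lit 72577284)]

def s6_L3 : List (ℕ × List ℕ) := [((nat_lit 0), [(nat_lit 16434824), (nat_lit 14570689), (nat_lit 11788826), (nat_lit 11788371)]),
  ((nat_lit 4), [(nat_lit 16434824), (nat_lit 14571144)])]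

def s6_D3 : List ℕ := [(nat_lit 0), (nat_lit 513), (nat_lit 1025), (nat_lit 1537), (nat_lit 0), (nat_lit 851715)]

def s6_L4 : List (ℕ × List ℕ) := [((nat_lit 0), [(nat_lit 16434824), (nat_lit 14570689), (nat_lit 11788826), (nat_lit 6852524), (nat_lit 9924691), (nat_lit 4988389), (nat_lit 2206526), (nat_lit 342391)])]

def s6_D4 : List ℕ := [(nat_lit 0), (nat_lit 513), (nat_lit 1025), (nat_lit 1537), (nat_lit 41986), (nat_lit 47618), (nat_lit 62978), (nat_lit 91650)]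

def s6_L5 : List (ℕ × List ℕ) := [((nat_lit 0), [(nat_lit 16434824), (nat_lit 14570689), (nat_lit 11788826), (nat_lit 11788371), (nat_lit 6852524), (nat_lit 4988389), (nat_lit 2206526), (nat_lit 2206071)]),
  ((nat_lit 4), [(nat_lit 16434824), (nat_lit 11789960), (nat_lit 14571144), (nat_lit 9926280)])]

def s6_D5 : List ℕ := [(nat_lit 0), (nat_lit 513), (nat_lit 1025), (nat_lit 1537), (nat_lit 2561), (nat_lit 81410), (nat_lit 100866), (nat_lit 122370), (nat_lit 0), (nat_lit 65282), (nat_lit 3707651), (nat_lit 306037508)]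

def s6_L6 : List (ℕ × List ℕ) := [((nat_lit 0), [(nat_lit 16434824), (nat_lit 14570689), (nat_lit 11788826), (nat_lit 11788371), (nat_lit 6823845), (nat_lit 5017068), (nat_lit 371070), (nat_lit 371511)]),
  ((nat_lit 4), [(nat_lit 16434824), (nat_lit 11789960), (nat_lit 14571144), (nat_lit 9926280)])]

def s6_D6 : List ℕ := [(nat_lit 0), (nat_lit 513), (nat_lit 1025), (nat_lit 1537), (nat_lit 2561), (nat_lit 81410), (nat_lit 100866), (nat_lit 122370), (nat_lit 0), (nat_lit 65282), (nat_lit 3707651), (nat_lit 306037508)]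

def s6_L7 : List (ℕ × List ℕ) := [((nat_lit 0), [(nat_lit 16434824), (nat_lit 14570689), (nat_lit 11788826), (nat_lit 11788371)]),
  ((nat_lit 4), [(nat_lit 16434824), (nat_lit 11789960), (nat_lit 11760840), (nat_lit 16405704)]),
  ((nat_lit 2), [(nat_lit 16434824), (nat_lit 14599368)])]

def s6_D7 : List ℕ := [(nat_lit 0), (nat_lit 513), (nat_lit 1025), (nat_lit 1537), (nat_lit 0), (nat_lit 48898), (nat_lit 3309315), (nat_lit 4210435), (nat_lit 0), (nat_lit 80642)]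

def s6_L8 : List (ℕ × List ℕ) := [((nat_lit 0), [(nat_lit 16434824), (nat_lit 6852524), (nat_lit 6823845), (nat_lit 16434369)]),
  ((nat_lit 2), [(nat_lit 16434824), (nat_lit 14599368)]),
  ((nat_lit 4), [(nat_lit 16434824), (nat_lit 14571144)])]

def s6_D8 : List ℕ := [(nat_lit 0), (nat_lit 513), (nat_lit 1025), (nat_lit 1537), (nat_lit 0), (nat_lit 1273603), (nat_lit 0), (nat_lit 53506)]

def s6_L9 : List (ℕ × List ℕ) := [((nat_lit 0), [(nat_lit 16434824), (nat_lit 16406145)]),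
  ((nat_lit 2), [(nat_lit 16434824), (nat_lit 16405704)]),
  ((nat_lit 4), [(nat_lit 16434824), (nat_lit 14571144)])]

def s6_D9 : List ℕ := [(nat_lit 0), (nat_lit 513), (nat_lit 0), (nat_lit 17154), (nat_lit 0), (nat_lit 552195)]

def s6_L10 : List (ℕ × List ℕ) := [((nat_lit 0), [(nat_lit 16434824), (nat_lit 16434369), (nat_lit 16433690), (nat_lit 16433235)])]

def s6_D10 : List ℕ := [(nat_lit 0), (nat_lit 513), (nat_lit 1025), (nat_lit 25602)]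

def s6_L11 : List (ℕ × List ℕ) := [((nat_lit 0), [(nat_lit 16434824), (nat_lit 11788826), (nat_lit 9925825), (nat_lit 14569555)])]

def s6_D11 : List ℕ := [(nat_lit 0), (nat_lit 513), (nat_lit 1025), (nat_lit 25602)]

def s6_L12 : List (ℕ × List ℕ) := [((nat_lit 0), [(nat_lit 16434824), (nat_lit 11788826), (nat_lit 6852524), (nat_lit 6823845), (nat_lit 14570689), (nat_lit 2206526), (nat_lit 9924691), (nat_lit 2177847)]),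
  ((nat_lit 2), [(nat_lit 16434824), (nat_lit 14599368)])]

def s6_D12 : List ℕ := [(nat_lit 0), (nat_lit 513), (nat_lit 1025), (nat_lit 1537), (nat_lit 2049), (nat_lit 62466), (nat_lit 69634), (nat_lit 98818), (nat_lit 0), (nat_lit 2456835)]

def s6_L13 : List (ℕ × List ℕ) := [((nat_lit 0), [(nat_lit 16434824), (nat_lit 6852524), (nat_lit 11788371), (nat_lit 6823845), (nat_lit 14570689), (nat_lit 342846), (nat_lit 2206071), (nat_lit 9925146)]),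
  ((nat_lit 2), [(nat_lit 16434824), (nat_lit 14599368)])]

def s6_D13 : List ℕ := [(nat_lit 0), (nat_lit 513), (nat_lit 1025), (nat_lit 1537), (nat_lit 2049), (nat_lit 62466), (nat_lit 79362), (nat_lit 88066), (nat_lit 0), (nat_lit 2456323)]

def s6 : PM :=
  ⟨(nat_lit 8), (nat_lit 3), [(nat_lit 11788826), (nat_lit 6852524), (nat_lit 11788371), (nat_lit 6823845), (nat_lit 14570689), (nat_lit 16434824), (nat_lit 9925825)],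
    [[.l 1, .l 2, .l 3, .l 4, .l 5, .l 7],
    [.l 1, .l 2, .l 3, .l 4, .l 5],
    [.l 5, .l 1, .l 3, .l 7],
    [.l 5, .l 1, .l 3],
    [.l 5, .l 1, .l 2],
    [.l 5, .l 1, .l 3, .l 7, .l 2],
    [.l 5, .l 1, .l 3, .l 7, .l 4],
    [.l 5, .l 1, .l 3, .l 7, .mul (.l 2) (.l 4)],
    [.l 2, .l 4, .mul (.l 1) (.l 3), .l 5],
    [.mul (.l 2) (.l 4), .mul (.l 1) (.l 3), .l 5],
    [.mul (.l 1) (.l 3), .mul (.mul (.l 1) (.l 7)) (.l 5)],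
    [.l 1, .l 7],
    [.l 1, .l 2, .l 4, .l 5],
    [.l 2, .l 3, .l 4, .l 5]],
    [s6_L0, s6_L1, s6_L2, s6_L3, s6_L4, s6_L5, s6_L6, s6_L7, s6_L8, s6_L9, s6_L10, s6_L11, s6_L12, s6_L13], [s6_D0, s6_D1, s6_D2, s6_D3, s6_D4, s6_D5, s6_D6, s6_D7, s6_D8, s6_D9, s6_D10, s6_D11, s6_D12, s6_D13]⟩

instance s6_ne : NeZero s6.n := ⟨by decide⟩

theorem s6_ok0 : s6.ok0 = true := by decide +kernel

theorem s6_k0 : allFrom (nat_lit 0) (nat_lit 1) s6.okK = true := by decide +kernel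

theorem s6_k1 : allFrom (nat_lit 1) (nat_lit 1) s6.okK = true := by decide +kernel

theorem s6_k2 : allFrom (nat_lit 2) (nat_lit 1) s6.okK = true := by decide +kernel

theorem s6_k3 : allFrom (nat_lit 3) (nat_lit 1) s6.okK = true := by decide +kernel

theorem s6_k4 : allFrom (nat_lit 4) (nat_lit 1) s6.okK = true := by decide +kernel

theorem s6_k5 : allFrom (nat_lit 5) (nat_lit 1) s6.okK = true := by decide +kernel

theorem s6_k6 : allFrom (nat_lit 6) (nat_lit 1) s6.okK = true := by decide +kernel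

theorem s6_k7 : allFrom (nat_lit 7) (nat_lit 1) s6.okK = true := by decide +kernel

theorem s6_k8 : allFrom (nat_lit 8) (nat_lit 1) s6.okK = true := by decide +kernel

theorem s6_k9 : allFrom (nat_lit 9) (nat_lit 1) s6.okK = true := by decide +kernel

theorem s6_k10 : allFrom (nat_lit 10) (nat_lit 1) s6.okK = true := by decide +kernel

theorem s6_k11 : allFrom (nat_lit 11) (nat_lit 1) s6.okK = true := by decide +kernel

theorem s6_k12 : allFrom (nat_lit 12) (nat_lit 1) s6.okK = true := by decide +kernel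

theorem s6_k13 : allFrom (nat_lit 13) (nat_lit 1) s6.okK = true := by decide +kernel

theorem s6_ok : s6.OK := PM.OK.of_check s6_ok0
  (of_allFrom_append (of_allFrom_append (of_allFrom_append (of_allFrom_append (of_allFrom_append (of_allFrom_append (of_allFrom_append (of_allFrom_append (of_allFrom_append (of_allFrom_append (of_allFrom_append (of_allFrom_append (of_allFrom_append (of_allFrom_append of_lt_zero s6_k0) s6_k1) s6_k2) s6_k3) s6_k4) s6_k5) s6_k6) s6_k7) s6_k8) s6_k9) s6_k10) s6_k11) s6_k12) s6_k13)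

theorem s6_card0 : Nat.card (genW s6.gam (s6.ws 0)) = 64 := (s6_ok.card 0).trans (by decide +kernel)

theorem s6_card1 : Nat.card (genW s6.gam (s6.ws 1)) = 32 := (s6_ok.card 1).trans (by decide +kernel)

theorem s6_card2 : Nat.card (genW s6.gam (s6.ws 2)) = 16 := (s6_ok.card 2).trans (by decide +kernel)

theorem s6_card3 : Nat.card (genW s6.gam (s6.ws 3)) = 8 := (s6_ok.card 3).trans (by decide +kernel)

theorem s6_card4 : Nat.card (genW s6.gam (s6.ws 4)) = 8 := (s6_ok.card 4).trans (by decide +kernel)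

theorem s6_card5 : Nat.card (genW s6.gam (s6.ws 5)) = 32 := (s6_ok.card 5).trans (by decide +kernel)

theorem s6_card6 : Nat.card (genW s6.gam (s6.ws 6)) = 32 := (s6_ok.card 6).trans (by decide +kernel)

theorem s6_card7 : Nat.card (genW s6.gam (s6.ws 7)) = 32 := (s6_ok.card 7).trans (by decide +kernel)

theorem s6_card8 : Nat.card (genW s6.gam (s6.ws 8)) = 16 := (s6_ok.card 8).trans (by decide +kernel)

theorem s6_card9 : Nat.card (genW s6.gam (s6.ws 9)) = 8 := (s6_ok.card 9).trans (by decide +kernel)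

theorem s6_card10 : Nat.card (genW s6.gam (s6.ws 10)) = 4 := (s6_ok.card 10).trans (by decide +kernel)

theorem s6_card11 : Nat.card (genW s6.gam (s6.ws 11)) = 4 := (s6_ok.card 11).trans (by decide +kernel)

theorem s6_card12 : Nat.card (genW s6.gam (s6.ws 12)) = 16 := (s6_ok.card 12).trans (by decide +kernel)

theorem s6_card13 : Nat.card (genW s6.gam (s6.ws 13)) = 16 := (s6_ok.card 13).trans (by decide +kernel)

theorem s6_cls {G : Type*} [Group G] {γ : ℕ → G} (g : Gf s6 γ 0 []) :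
    ∀ s ∈ genW γ (s6.ws 0), s * s = 1 → s ∈ genW γ (s6.ws 2) ∨ (∃ k ∈ genW γ (s6.ws 0), k * γ 2 = s * k ∧ True) ∨ (∃ k ∈ genW γ (s6.ws 0), k * γ 4 = s * k ∧ True) ∨ (∃ k ∈ genW γ (s6.ws 0), k * (γ 2 * γ 4) = s * k ∧ True) :=
  g.tr (φ := .all 0 40 [] (.imp (.one (.mul (.l 40) (.l 40))) (.or (.mem 2 (.l 40)) (.or (.ex 0 41 [(.l 2, .l 40)] (.tt)) (.or (.ex 0 41 [(.l 4, .l 40)] (.tt)) (.ex 0 41 [(.mul (.l 2) (.l 4), .l 40)] (.tt))))))) (by decide +kernel)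

theorem s6_out {G : Type*} [Group G] {γ : ℕ → G} (g : Gf s6 γ 0 []) :
    ∀ s ∈ genW γ (s6.ws 0), s * s = 1 ∨ s * s = γ 5 → s ∈ genW γ (s6.ws 1) ∨ s ∈ genW γ (s6.ws 2) ∧ s * s = 1 :=
  g.tr (φ := .all 0 40 [] (.imp (.or (.one (.mul (.l 40) (.l 40))) (.eq (.mul (.l 40) (.l 40)) (.l 5))) (.or (.mem 1 (.l 40)) (.and (.mem 2 (.l 40)) (.one (.mul (.l 40) (.l 40))))))) (by decide +kernel)

theorem s6_Cb {G : Type*} [Group G] {γ : ℕ → G} (g : Gf s6 γ 0 []) :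
    ∀ s ∈ genW γ (s6.ws 0), s * γ 2 = γ 2 * s → s ∈ genW γ (s6.ws 12) :=
  g.tr (φ := .all 0 40 [(.l 2, .l 2)] (.mem 12 (.l 40))) (by decide +kernel)

theorem s6_Cd {G : Type*} [Group G] {γ : ℕ → G} (g : Gf s6 γ 0 []) :
    ∀ s ∈ genW γ (s6.ws 0), s * γ 4 = γ 4 * s → s ∈ genW γ (s6.ws 13) :=
  g.tr (φ := .all 0 40 [(.l 4, .l 4)] (.mem 13 (.l 40))) (by decide +kernel)

theorem s6_Ct {G : Type*} [Group G] {γ : ℕ → G} (g : Gf s6 γ 0 []) :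
    ∀ s ∈ genW γ (s6.ws 0), s * (γ 2 * γ 4) = γ 2 * γ 4 * s → s ∈ genW γ (s6.ws 8) :=
  g.tr (φ := .all 0 40 [(.mul (.l 2) (.l 4), .mul (.l 2) (.l 4))] (.mem 8 (.l 40))) (by decide +kernel)

theorem s6_T1 {G : Type*} [Group G] {γ : ℕ → G} (g : Gf s6 γ 0 []) :
    ∀ s ∈ genW γ (s6.ws 0), s * γ 1 = γ 1 * s → s ∈ genW γ (s6.ws 5) :=
  g.tr (φ := .all 0 40 [(.l 1, .l 1)] (.mem 5 (.l 40))) (by decide +kernel)

theorem s6_T2 {G : Type*} [Group G] {γ : ℕ → G} (g : Gf s6 γ 0 []) :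
    ∀ s ∈ genW γ (s6.ws 0), s * γ 3 = γ 3 * s → s ∈ genW γ (s6.ws 6) :=
  g.tr (φ := .all 0 40 [(.l 3, .l 3)] (.mem 6 (.l 40))) (by decide +kernel)

theorem s6_T3 {G : Type*} [Group G] {γ : ℕ → G} (g : Gf s6 γ 0 []) :
    ∀ s ∈ genW γ (s6.ws 0), s * (γ 1 * γ 3) = γ 1 * γ 3 * s → s ∈ genW γ (s6.ws 7) :=
  g.tr (φ := .all 0 40 [(.mul (.l 1) (.l 3), .mul (.l 1) (.l 3))] (.mem 7 (.l 40))) (by decide +kernel)

theorem s6_A {G : Type*} [Group G] {γ : ℕ → G} (g : Gf s6 γ 0 []) :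
    ∀ p ∈ genW γ (s6.ws 2), p * p = 1 ∧ (∀ q ∈ genW γ (s6.ws 2), p * q = q * p) :=
  g.tr (φ := .all 2 40 [] (.and (.one (.mul (.l 40) (.l 40))) (.all 2 41 [] (.eq (.mul (.l 40) (.l 41)) (.mul (.l 41) (.l 40)))))) (by decide +kernel)

theorem s6_V1 {G : Type*} [Group G] {γ : ℕ → G} (g : Gf s6 γ 0 []) :
    ∀ p ∈ genW γ (s6.ws 4), p * p = 1 :=
  g.tr (φ := .all 4 40 [] (.one (.mul (.l 40) (.l 40)))) (by decide +kernel)

theorem s6_R {G : Type*} [Group G] {γ : ℕ → G} (g : Gf s6 γ 0 []) :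
    ∀ s ∈ genW γ (s6.ws 0), s ∈ genW γ (s6.ws 2) ∨ (∀ u ∈ genW γ (s6.ws 2), (s * u * s⁻¹ * u⁻¹ = 1 ∨ s * u * s⁻¹ * u⁻¹ = γ 5 → u ∈ genW γ (s6.ws 3)) ∧ (u ∈ genW γ (s6.ws 3) → s * u * s⁻¹ * u⁻¹ = 1 ∨ s * u * s⁻¹ * u⁻¹ = γ 5)) :=
  g.tr (φ := .all 0 40 [] (.or (.mem 2 (.l 40)) (.all 2 41 [] (.and (.imp (.or (.one (.mul (.mul (.mul (.l 40) (.l 41)) (.inv (.l 40))) (.inv (.l 41)))) (.eq (.mul (.mul (.mul (.l 40) (.l 41)) (.inv (.l 40))) (.inv (.l 41))) (.l 5))) (.mem 3 (.l 41))) (.imp (.mem 3 (.l 41)) (.or (.one (.mul (.mul (.mul (.l 40) (.l 41)) (.inv (.l 40))) (.inv (.l 41)))) (.eq (.mul (.mul (.mul (.l 40) (.l 41)) (.inv (.l 40))) (.inv (.l 41))) (.l 5)))))))) (by decide +kernel)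

theorem s6_Rs {G : Type*} [Group G] {γ : ℕ → G} (g : Gf s6 γ 0 []) :
    ∀ p ∈ genW γ (s6.ws 3), (p = 1 ∨ p = γ 5) ∨ (∃ s ∈ genW γ (s6.ws 0), s * p = p * s ∧ s ∉ genW γ (s6.ws 2) ∧ (∀ x ∈ genW γ (s6.ws 2), (s * x * s⁻¹ * x⁻¹ = 1 ∨ s * x * s⁻¹ * x⁻¹ = γ 5) ∨ s * x * s⁻¹ * x⁻¹ * p = 1 ∨ s * x * s⁻¹ * x⁻¹ * p = γ 5)) :=
  g.tr (φ := .all 3 40 [] (.or (.or (.one (.l 40)) (.eq (.l 40) (.l 5))) (.ex 0 41 [(.l 40, .l 40)] (.and (.not (.mem 2 (.l 41))) (.all 2 42 [] (.or (.or (.one (.mul (.mul (.mul (.l 41) (.l 42)) (.inv (.l 41))) (.inv (.l 42)))) (.eq (.mul (.mul (.mul (.l 41) (.l 42)) (.inv (.l 41))) (.inv (.l 42))) (.l 5))) (.or (.one (.mul (.mul (.mul (.mul (.l 41) (.l 42)) (.inv (.l 41))) (.inv (.l 42))) (.l 40))) (.eq (.mul (.mul (.mul (.mul (.l 41) (.l 42)) (.inv (.l 41))) (.inv (.l 42))) (.l 40)) (.l 5))))))))) (by decide +kernel)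

theorem s6_r4 {G : Type*} [Group G] {γ : ℕ → G} (g : Gf s6 γ 0 []) :
    ∀ q ∈ genW γ (s6.ws 1), q * q = 1 → ∃ r ∈ genW γ (s6.ws 1), r * q = q * r ∧ r * r = γ 5 :=
  g.tr (φ := .all 1 40 [] (.imp (.one (.mul (.l 40) (.l 40))) (.ex 1 41 [(.l 40, .l 40)] (.eq (.mul (.l 41) (.l 41)) (.l 5))))) (by decide +kernel)

theorem s6_cw {G : Type*} [Group G] {γ : ℕ → G} (g : Gf s6 γ 0 []) :
    ∀ q ∈ genW γ (s6.ws 2), q ∈ genW γ (s6.ws 3) ∨ (∀ r ∈ genW γ (s6.ws 0), r * q = q * r → r ∈ genW γ (s6.ws 2)) :=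
  g.tr (φ := .all 2 40 [] (.or (.mem 3 (.l 40)) (.all 0 41 [(.l 40, .l 40)] (.mem 2 (.l 41))))) (by decide +kernel)

theorem s6_sq {G : Type*} [Group G] {γ : ℕ → G} (g : Gf s6 γ 0 []) :
    ∀ r ∈ genW γ (s6.ws 0), r * r ∈ genW γ (s6.ws 3) :=
  g.tr (φ := .all 0 40 [] (.mem 3 (.mul (.l 40) (.l 40)))) (by decide +kernel)

theorem s6_sqQ {G : Type*} [Group G] {γ : ℕ → G} (g : Gf s6 γ 0 []) :
    ∀ r ∈ genW γ (s6.ws 1), r * r = 1 ∨ r * r = γ 5 :=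
  g.tr (φ := .all 1 40 [] (.or (.one (.mul (.l 40) (.l 40))) (.eq (.mul (.l 40) (.l 40)) (.l 5)))) (by decide +kernel)

theorem s6_sqT {G : Type*} [Group G] {γ : ℕ → G} (g : Gf s6 γ 0 []) :
    ∀ p ∈ genW γ (s6.ws 3), (p = 1 ∨ p = γ 5) ∨ (∀ r ∈ genW γ (s6.ws 0), r * p = p * r → (r * r = 1 ∨ r * r = γ 5) ∨ r * r * p = 1 ∨ r * r * p = γ 5) :=
  g.tr (φ := .all 3 40 [] (.or (.or (.one (.l 40)) (.eq (.l 40) (.l 5))) (.all 0 41 [(.l 40, .l 40)] (.or (.or (.one (.mul (.l 41) (.l 41))) (.eq (.mul (.l 41) (.l 41)) (.l 5))) (.or (.one (.mul (.mul (.l 41) (.l 41)) (.l 40))) (.eq (.mul (.mul (.l 41) (.l 41)) (.l 40)) (.l 5))))))) (by decide +kernel)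

theorem s6_sqO {G : Type*} [Group G] {γ : ℕ → G} (g : Gf s6 γ 0 []) :
    ∀ s ∈ genW γ (s6.ws 0), s * s = 1 → s ∈ genW γ (s6.ws 2) ∨ (∀ r ∈ genW γ (s6.ws 0), r * s = s * r → r * r = 1 ∨ r * r = γ 5) ∧ (∀ u ∈ genW γ (s6.ws 2), u * s = s * u → ∀ v ∈ genW γ (s6.ws 2), v * s = s * v → (u = 1 ∨ u = γ 5) ∨ (v = 1 ∨ v = γ 5) ∨ u * v = 1 ∨ u * v = γ 5) :=
  g.tr (φ := .all 0 40 [] (.imp (.one (.mul (.l 40) (.l 40))) (.or (.mem 2 (.l 40)) (.and (.all 0 41 [(.l 40, .l 40)] (.or (.one (.mul (.l 41) (.l 41))) (.eq (.mul (.l 41) (.l 41)) (.l 5)))) (.all 2 41 [(.l 40, .l 40)] (.all 2 42 [(.l 40, .l 40)] (.or (.or (.one (.l 41)) (.eq (.l 41) (.l 5))) (.or (.or (.one (.l 42)) (.eq (.l 42) (.l 5))) (.or (.one (.mul (.l 41) (.l 42))) (.eq (.mul (.l 41) (.l 42)) (.l 5))))))))))) (by decide +kernel)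

theorem s6_R0 {G : Type*} [Group G] {γ : ℕ → G} (g : Gf s6 γ 0 []) :
    ∀ p ∈ genW γ (s6.ws 3), (p = 1 ∨ p = γ 5) ∨ (∃ k ∈ genW γ (s6.ws 0), k * γ 1 = p * k ∧ True) ∨ (∃ k ∈ genW γ (s6.ws 0), k * γ 3 = p * k ∧ True) ∨ (∃ k ∈ genW γ (s6.ws 0), k * (γ 1 * γ 3) = p * k ∧ True) :=
  g.tr (φ := .all 3 40 [] (.or (.or (.one (.l 40)) (.eq (.l 40) (.l 5))) (.or (.ex 0 41 [(.l 1, .l 40)] (.tt)) (.or (.ex 0 41 [(.l 3, .l 40)] (.tt)) (.ex 0 41 [(.mul (.l 1) (.l 3), .l 40)] (.tt)))))) (by decide +kernel)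

theorem s6_Aw {G : Type*} [Group G] {γ : ℕ → G} (g : Gf s6 γ 0 []) :
    ∀ p ∈ genW γ (s6.ws 2), p ∈ genW γ (s6.ws 3) ∨ (∃ k ∈ genW γ (s6.ws 0), k * γ 7 = p * k ∧ True) ∨ (∃ k ∈ genW γ (s6.ws 0), k * (γ 7 * γ 5) = p * k ∧ True) :=
  g.tr (φ := .all 2 40 [] (.or (.mem 3 (.l 40)) (.or (.ex 0 41 [(.l 7, .l 40)] (.tt)) (.ex 0 41 [(.mul (.l 7) (.l 5), .l 40)] (.tt))))) (by decide +kernel)

theorem s6_qz {G : Type*} [Group G] {γ : ℕ → G} (g : Gf s6 γ 0 []) :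
    ∀ q ∈ genW γ (s6.ws 1), (q = 1 ∨ q = γ 5) ∨ (∃ e ∈ genW γ (s6.ws 1), e * q = q * γ 5 * e ∧ True) :=
  g.tr (φ := .all 1 40 [] (.or (.or (.one (.l 40)) (.eq (.l 40) (.l 5))) (.ex 1 41 [(.l 40, .mul (.l 40) (.l 5))] (.tt)))) (by decide +kernel)

theorem s6_cQ {G : Type*} [Group G] {γ : ℕ → G} (g : Gf s6 γ 0 []) :
    ∀ s ∈ genW γ (s6.ws 0), s * γ 1 = γ 1 * s → s * γ 2 = γ 2 * s → s * γ 3 = γ 3 * s → s * γ 4 = γ 4 * s → s = 1 ∨ s = γ 5 :=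
  g.tr (φ := .all 0 40 [(.l 1, .l 1), (.l 2, .l 2), (.l 3, .l 3), (.l 4, .l 4)] (.or (.one (.l 40)) (.eq (.l 40) (.l 5)))) (by decide +kernel)

theorem s6_cR {G : Type*} [Group G] {γ : ℕ → G} (g : Gf s6 γ 0 []) :
    ∀ s ∈ genW γ (s6.ws 1), s * γ 1 = γ 1 * s → s * γ 3 = γ 3 * s → s ∈ genW γ (s6.ws 3) :=
  g.tr (φ := .all 1 40 [(.l 1, .l 1), (.l 3, .l 3)] (.mem 3 (.l 40))) (by decide +kernel)

theorem s6_E8 {G : Type*} [Group G] {γ : ℕ → G} (g : Gf s6 γ 0 []) :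
    ∀ p ∈ genW γ (s6.ws 3), (p = 1 ∨ p = γ 5) ∨ (∀ q ∈ genW γ (s6.ws 1), q * p = p * q → q * q = 1 → q ∈ genW γ (s6.ws 2) ∨ (∀ r ∈ genW γ (s6.ws 1), r * p = p * r → r * q = q * r → (r = 1 ∨ r = γ 5) ∨ (r * p = 1 ∨ r * p = γ 5) ∨ (r * q = 1 ∨ r * q = γ 5) ∨ r * p * q = 1 ∨ r * p * q = γ 5)) :=
  g.tr (φ := .all 3 40 [] (.or (.or (.one (.l 40)) (.eq (.l 40) (.l 5))) (.all 1 41 [(.l 40, .l 40)] (.imp (.one (.mul (.l 41) (.l 41))) (.or (.mem 2 (.l 41)) (.all 1 42 [(.l 40, .l 40), (.l 41, .l 41)] (.or (.or (.one (.l 42)) (.eq (.l 42) (.l 5))) (.or (.or (.one (.mul (.l 42) (.l 40))) (.eq (.mul (.l 42) (.l 40)) (.l 5))) (.or (.or (.one (.mul (.l 42) (.l 41))) (.eq (.mul (.l 42) (.l 41)) (.l 5))) (.or (.one (.mul (.mul (.l 42) (.l 40)) (.l 41))) (.eq (.mul (.mul (.l 42) (.l 40)) (.l 41)) (.l 5)))))))))))) (by decide +kernel)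

theorem s6_col {G : Type*} [Group G] {γ : ℕ → G} (g : Gf s6 γ 0 []) :
    ∀ p ∈ genW γ (s6.ws 3), (p = 1 ∨ p = γ 5) ∨ (∀ t ∈ genW γ (s6.ws 1), t * p = p * t → t * t = 1 → t ∈ genW γ (s6.ws 2) ∨ (∀ r ∈ genW γ (s6.ws 1), r * p = p * r → r * r = 1 → r * t = t * r ∨ r ∈ genW γ (s6.ws 3))) :=
  g.tr (φ := .all 3 40 [] (.or (.or (.one (.l 40)) (.eq (.l 40) (.l 5))) (.all 1 41 [(.l 40, .l 40)] (.imp (.one (.mul (.l 41) (.l 41))) (.or (.mem 2 (.l 41)) (.all 1 42 [(.l 40, .l 40)] (.imp (.one (.mul (.l 42) (.l 42))) (.or (.eq (.mul (.l 42) (.l 41)) (.mul (.l 41) (.l 42))) (.mem 3 (.l 42)))))))))) (by decide +kernel)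

theorem s6_i1 {G : Type*} [Group G] {γ : ℕ → G} (g : Gf s6 γ 0 []) :
    ∀ s ∈ genW γ (s6.ws 5), s * s = 1 → s ∈ genW γ (s6.ws 2) ∨ (∃ k ∈ genW γ (s6.ws 0), k * γ 2 = s * k ∧ True) :=
  g.tr (φ := .all 5 40 [] (.imp (.one (.mul (.l 40) (.l 40))) (.or (.mem 2 (.l 40)) (.ex 0 41 [(.l 2, .l 40)] (.tt))))) (by decide +kernel)

theorem s6_i2 {G : Type*} [Group G] {γ : ℕ → G} (g : Gf s6 γ 0 []) :
    ∀ s ∈ genW γ (s6.ws 6), s * s = 1 → s ∈ genW γ (s6.ws 2) ∨ (∃ k ∈ genW γ (s6.ws 0), k * γ 4 = s * k ∧ True) :=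
  g.tr (φ := .all 6 40 [] (.imp (.one (.mul (.l 40) (.l 40))) (.or (.mem 2 (.l 40)) (.ex 0 41 [(.l 4, .l 40)] (.tt))))) (by decide +kernel)

theorem s6_i3 {G : Type*} [Group G] {γ : ℕ → G} (g : Gf s6 γ 0 []) :
    ∀ s ∈ genW γ (s6.ws 7), s * s = 1 → s ∈ genW γ (s6.ws 2) ∨ (∃ k ∈ genW γ (s6.ws 0), k * (γ 2 * γ 4) = s * k ∧ True) ∧ s * (γ 1 * γ 3) = γ 1 * γ 3 * s ∧ s * (γ 2 * γ 4) = γ 2 * γ 4 * s :=
  g.tr (φ := .all 7 40 [] (.imp (.one (.mul (.l 40) (.l 40))) (.or (.mem 2 (.l 40)) (.and (.ex 0 41 [(.mul (.l 2) (.l 4), .l 40)] (.tt)) (.and (.eq (.mul (.l 40) (.mul (.l 1) (.l 3))) (.mul (.mul (.l 1) (.l 3)) (.l 40))) (.eq (.mul (.l 40) (.mul (.l 2) (.l 4))) (.mul (.mul (.l 2) (.l 4)) (.l 40)))))))) (by decide +kernel)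

theorem s6_V1c {G : Type*} [Group G] {γ : ℕ → G} (g : Gf s6 γ 0 []) :
    ∀ p ∈ genW γ (s6.ws 4), (p = 1 ∨ p = γ 5) ∨ (∃ k ∈ genW γ (s6.ws 0), k * γ 1 = p * k ∧ True) ∨ (∃ k ∈ genW γ (s6.ws 0), k * γ 2 = p * k ∧ True) :=
  g.tr (φ := .all 4 40 [] (.or (.or (.one (.l 40)) (.eq (.l 40) (.l 5))) (.or (.ex 0 41 [(.l 1, .l 40)] (.tt)) (.ex 0 41 [(.l 2, .l 40)] (.tt))))) (by decide +kernel)

theorem s6_beta {G : Type*} [Group G] {γ : ℕ → G} (g : Gf s6 γ 0 []) :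
    ∀ p ∈ genW γ (s6.ws 2), (p = 1 ∨ p = γ 5) ∨ ((∃ k ∈ genW γ (s6.ws 0), k * (γ 1 * γ 3) = p * k ∧ True) ∨ (∃ k ∈ genW γ (s6.ws 0), k * (γ 7 * γ 5) = p * k ∧ True)) ∨ p * (γ 1 * γ 3) = γ 5 ∨ (∃ k ∈ genW γ (s6.ws 0), k * γ 1 = p * (γ 1 * γ 3) * k ∧ True) ∨ (∃ k ∈ genW γ (s6.ws 0), k * γ 7 = p * k ∧ True) ∧ (∃ k ∈ genW γ (s6.ws 0), k * γ 7 = p * (γ 1 * γ 3) * k ∧ True) ∨ (∃ k ∈ genW γ (s6.ws 7), k * γ 1 = p * k ∧ True) ∨ (∃ k ∈ genW γ (s6.ws 7), k * γ 7 = p * k ∧ True) :=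
  g.tr (φ := .all 2 40 [] (.or (.or (.one (.l 40)) (.eq (.l 40) (.l 5))) (.or (.or (.ex 0 41 [(.mul (.l 1) (.l 3), .l 40)] (.tt)) (.ex 0 41 [(.mul (.l 7) (.l 5), .l 40)] (.tt))) (.or (.eq (.mul (.l 40) (.mul (.l 1) (.l 3))) (.l 5)) (.or (.ex 0 41 [(.l 1, .mul (.l 40) (.mul (.l 1) (.l 3)))] (.tt)) (.or (.and (.ex 0 41 [(.l 7, .l 40)] (.tt)) (.ex 0 41 [(.l 7, .mul (.l 40) (.mul (.l 1) (.l 3)))] (.tt))) (.or (.ex 7 41 [(.l 1, .l 40)] (.tt)) (.ex 7 41 [(.l 7, .l 40)] (.tt))))))))) (by decide +kernel)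

theorem s6_U {G : Type*} [Group G] {γ : ℕ → G} (g : Gf s6 γ 0 []) :
    ∀ u ∈ genW γ (s6.ws 10), u = 1 ∨ ((∃ k ∈ genW γ (s6.ws 0), k * (γ 1 * γ 3) = u * k ∧ True) ∨ (∃ k ∈ genW γ (s6.ws 0), k * (γ 7 * γ 5) = u * k ∧ True)) ∧ (∀ p ∈ genW γ (s6.ws 2), p ∈ genW γ (s6.ws 10) ∨ (p = γ 5 ∨ (∃ k ∈ genW γ (s6.ws 0), k * γ 1 = p * k ∧ True) ∨ (∃ k ∈ genW γ (s6.ws 0), k * γ 3 = p * k ∧ True) ∨ (∃ k ∈ genW γ (s6.ws 0), k * γ 7 = p * k ∧ True)) ∨ p * u = γ 5 ∨ (∃ k ∈ genW γ (s6.ws 0), k * γ 1 = p * u * k ∧ True) ∨ (∃ k ∈ genW γ (s6.ws 0), k * γ 3 = p * u * k ∧ True) ∨ (∃ k ∈ genW γ (s6.ws 0), k * γ 7 = p * u * k ∧ True)) :=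
  g.tr (φ := .all 10 40 [] (.or (.one (.l 40)) (.and (.or (.ex 0 41 [(.mul (.l 1) (.l 3), .l 40)] (.tt)) (.ex 0 41 [(.mul (.l 7) (.l 5), .l 40)] (.tt))) (.all 2 41 [] (.or (.mem 10 (.l 41)) (.or (.or (.eq (.l 41) (.l 5)) (.or (.ex 0 42 [(.l 1, .l 41)] (.tt)) (.or (.ex 0 42 [(.l 3, .l 41)] (.tt)) (.ex 0 42 [(.l 7, .l 41)] (.tt))))) (.or (.eq (.mul (.l 41) (.l 40)) (.l 5)) (.or (.ex 0 42 [(.l 1, .mul (.l 41) (.l 40))] (.tt)) (.or (.ex 0 42 [(.l 3, .mul (.l 41) (.l 40))] (.tt)) (.ex 0 42 [(.l 7, .mul (.l 41) (.l 40))] (.tt))))))))))) (by decide +kernel)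

theorem s6_V {G : Type*} [Group G] {γ : ℕ → G} (g : Gf s6 γ 0 []) :
    ∀ x ∈ genW γ (s6.ws 2), x ∈ genW γ (s6.ws 10) ∨ (∃ v ∈ genW γ (s6.ws 2), x * v ∈ genW γ (s6.ws 10) ∧ ((∃ k ∈ genW γ (s6.ws 0), k * (γ 1 * γ 3) = v * k ∧ True) ∨ (∃ k ∈ genW γ (s6.ws 0), k * (γ 7 * γ 5) = v * k ∧ True)) ∧ (∀ u ∈ genW γ (s6.ws 10), u = 1 ∨ v * u = γ 5 ∨ (∃ k ∈ genW γ (s6.ws 0), k * γ 1 = v * u * k ∧ True) ∨ (∃ k ∈ genW γ (s6.ws 0), k * γ 3 = v * u * k ∧ True) ∨ (∃ k ∈ genW γ (s6.ws 0), k * γ 7 = v * u * k ∧ True))) :=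
  g.tr (φ := .all 2 40 [] (.or (.mem 10 (.l 40)) (.ex 2 41 [] (.and (.mem 10 (.mul (.l 40) (.l 41))) (.and (.or (.ex 0 42 [(.mul (.l 1) (.l 3), .l 41)] (.tt)) (.ex 0 42 [(.mul (.l 7) (.l 5), .l 41)] (.tt))) (.all 10 42 [] (.or (.one (.l 42)) (.or (.eq (.mul (.l 41) (.l 42)) (.l 5)) (.or (.ex 0 43 [(.l 1, .mul (.l 41) (.l 42))] (.tt)) (.or (.ex 0 43 [(.l 3, .mul (.l 41) (.l 42))] (.tt)) (.ex 0 43 [(.l 7, .mul (.l 41) (.l 42))] (.tt)))))))))))) (by decide +kernel)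

theorem s6_U3 {G : Type*} [Group G] {γ : ℕ → G} (g : Gf s6 γ 0 []) :
    ∀ u ∈ genW γ (s6.ws 10), u = 1 ∨ u = γ 1 * γ 3 ∨ u = γ 1 * γ 7 * γ 5 ∨ u = γ 1 * γ 3 * (γ 1 * γ 7 * γ 5) :=
  g.tr (φ := .all 10 40 [] (.or (.one (.l 40)) (.or (.eq (.l 40) (.mul (.l 1) (.l 3))) (.or (.eq (.l 40) (.mul (.mul (.l 1) (.l 7)) (.l 5))) (.eq (.l 40) (.mul (.mul (.l 1) (.l 3)) (.mul (.mul (.l 1) (.l 7)) (.l 5)))))))) (by decide +kernel)

theorem s6_U1 {G : Type*} [Group G] {γ : ℕ → G} (g : Gf s6 γ 0 []) :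
    ∀ p ∈ genW γ (s6.ws 0), p * p = 1 → p ∈ genW γ (s6.ws 11) ∨ p ∈ genW γ (s6.ws 1) ∨ (∃ k ∈ genW γ (s6.ws 0), k * (γ 7 * γ 5) = p * k ∧ True) ∨ (∃ k ∈ genW γ (s6.ws 0), k * (γ 7 * γ 5) = p * γ 1 * k ∧ True) :=
  g.tr (φ := .all 0 40 [] (.imp (.one (.mul (.l 40) (.l 40))) (.or (.mem 11 (.l 40)) (.or (.mem 1 (.l 40)) (.or (.ex 0 41 [(.mul (.l 7) (.l 5), .l 40)] (.tt)) (.ex 0 41 [(.mul (.l 7) (.l 5), .mul (.l 40) (.l 1))] (.tt))))))) (by decide +kernel)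

theorem s6_U1e {G : Type*} [Group G] {γ : ℕ → G} (g : Gf s6 γ 0 []) :
    ∀ u ∈ genW γ (s6.ws 11), u = 1 ∨ u = γ 1 ∨ u = γ 7 ∨ u = γ 7 * γ 1 :=
  g.tr (φ := .all 11 40 [] (.or (.one (.l 40)) (.or (.eq (.l 40) (.l 1)) (.or (.eq (.l 40) (.l 7)) (.eq (.l 40) (.mul (.l 7) (.l 1))))))) (by decide +kernel)

theorem s6_5 {G : Type*} [Group G] {γ : ℕ → G} (g : Gf s6 γ 0 []) :
    ∀ k ∈ genW γ (s6.ws 0), k * γ 7 * k⁻¹ = γ 7 ∨ k * γ 7 * k⁻¹ = γ 7 * γ 1 ∨ k * γ 7 * k⁻¹ = γ 7 * γ 3 ∨ k * γ 7 * k⁻¹ = γ 7 * γ 1 * γ 3 * γ 5 :=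
  g.tr (φ := .all 0 40 [] (.or (.eq (.mul (.mul (.l 40) (.l 7)) (.inv (.l 40))) (.l 7)) (.or (.eq (.mul (.mul (.l 40) (.l 7)) (.inv (.l 40))) (.mul (.l 7) (.l 1))) (.or (.eq (.mul (.mul (.l 40) (.l 7)) (.inv (.l 40))) (.mul (.l 7) (.l 3))) (.eq (.mul (.mul (.l 40) (.l 7)) (.inv (.l 40))) (.mul (.mul (.mul (.l 7) (.l 1)) (.l 3)) (.l 5))))))) (by decide +kernel)

theorem s6_cmQ {G : Type*} [Group G] {γ : ℕ → G} (g : Gf s6 γ 0 []) :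
    ∀ q ∈ genW γ (s6.ws 1), ∀ r ∈ genW γ (s6.ws 1), q * r * q⁻¹ = r ∨ q * r * q⁻¹ = r * γ 5 :=
  g.tr (φ := .all 1 40 [] (.all 1 41 [] (.or (.eq (.mul (.mul (.l 40) (.l 41)) (.inv (.l 40))) (.l 41)) (.eq (.mul (.mul (.l 40) (.l 41)) (.inv (.l 40))) (.mul (.l 41) (.l 5)))))) (by decide +kernel)

theorem s6_3 {G : Type*} [Group G] {γ : ℕ → G} (g : Gf s6 γ 0 []) :
    ∀ p ∈ genW γ (s6.ws 3), ∀ q ∈ genW γ (s6.ws 3), (p = 1 ∨ p = γ 5) ∨ (q = 1 ∨ q = γ 5) ∨ (q * p = 1 ∨ q * p = γ 5) ∨ (∃ k ∈ genW γ (s6.ws 0), k * (γ 1 * γ 3) = p * k ∧ True) ∨ (∃ k ∈ genW γ (s6.ws 0), k * (γ 1 * γ 3) = q * k ∧ True) ∧ ((∃ k ∈ genW γ (s6.ws 0), k * γ 3 = q * p * k ∧ True) ∨ (∃ k ∈ genW γ (s6.ws 0), k * γ 3 = p * k ∧ True) ∧ (∃ k ∈ genW γ (s6.ws 0), k * γ 1 = q * p * k ∧ True)) ∨ (∃ k ∈ genW γ (s6.ws 0), k * (γ 1 * γ 3) = q * p * k ∧ True) ∧ ((∃ k ∈ genW γ (s6.ws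 0), k * γ 3 = q * k ∧ True) ∨ (∃ k ∈ genW γ (s6.ws 0), k * γ 3 = p * k ∧ True) ∧ (∃ k ∈ genW γ (s6.ws 0), k * γ 1 = q * k ∧ True)) :=
  g.tr (φ := .all 3 40 [] (.all 3 41 [] (.or (.or (.one (.l 40)) (.eq (.l 40) (.l 5))) (.or (.or (.one (.l 41)) (.eq (.l 41) (.l 5))) (.or (.or (.one (.mul (.l 41) (.l 40))) (.eq (.mul (.l 41) (.l 40)) (.l 5))) (.or (.ex 0 42 [(.mul (.l 1) (.l 3), .l 40)] (.tt)) (.or (.and (.ex 0 42 [(.mul (.l 1) (.l 3), .l 41)] (.tt)) (.or (.ex 0 42 [(.l 3, .mul (.l 41) (.l 40))] (.tt)) (.and (.ex 0 42 [(.l 3, .l 40)] (.tt)) (.ex 0 42 [(.l 1, .mul (.l 41) (.l 40))] (.tt))))) (.and (.ex 0 42 [(.mul (.l 1) (.l 3), .mul (.l 41) (.l 40))] (.tt)) (.or (.ex 0 42 [(.l 3, .l 41)] (.tt)) (.and (.ex 0 42 [(.l 3, .l 40)] (.tt)) (.ex 0 42 [(.l 1, .l 41)] (.tt)))))))))))) (by decide +kernel)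

theorem s6_3b {G : Type*} [Group G] {γ : ℕ → G} (g : Gf s6 γ 0 []) :
    ∀ p ∈ genW γ (s6.ws 3), ∀ q ∈ genW γ (s6.ws 3), (p = 1 ∨ p = γ 5) ∨ (q = 1 ∨ q = γ 5) ∨ (p * q = 1 ∨ p * q = γ 5) ∨ (∃ k ∈ genW γ (s6.ws 0), k * γ 1 = p * k ∧ True) ∨ (∃ k ∈ genW γ (s6.ws 0), k * γ 3 = p * k ∧ True) ∧ (∃ k ∈ genW γ (s6.ws 0), k * γ 1 = q * k ∧ True) ∨ (∃ k ∈ genW γ (s6.ws 0), k * γ 1 = p * q * k ∧ True) ∨ (∃ k ∈ genW γ (s6.ws 0), k * γ 3 = p * q * k ∧ True) ∧ (∃ k ∈ genW γ (s6.ws 0), k * γ 1 = q * k ∧ True) :=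
  g.tr (φ := .all 3 40 [] (.all 3 41 [] (.or (.or (.one (.l 40)) (.eq (.l 40) (.l 5))) (.or (.or (.one (.l 41)) (.eq (.l 41) (.l 5))) (.or (.or (.one (.mul (.l 40) (.l 41))) (.eq (.mul (.l 40) (.l 41)) (.l 5))) (.or (.ex 0 42 [(.l 1, .l 40)] (.tt)) (.or (.and (.ex 0 42 [(.l 3, .l 40)] (.tt)) (.ex 0 42 [(.l 1, .l 41)] (.tt))) (.or (.ex 0 42 [(.l 1, .mul (.l 40) (.l 41))] (.tt)) (.and (.ex 0 42 [(.l 3, .mul (.l 40) (.l 41))] (.tt)) (.ex 0 42 [(.l 1, .l 41)] (.tt))))))))))) (by decide +kernel)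

theorem tcSy_tb : TB relSy (s6.ws 0) 64 := fun _ _ δ h0 hr =>
  card_le_of_relIndex (N := 32) (ov_le h0) (tcSy_idx h0 hr fun _ => mem_genW _)
    (tcQ_tb _ δ h0 fun t ht => hr t (List.mem_append_left _ (List.mem_append_left _ ht)))

end Cfsg.Lib.IA
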