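import Cfsg.Agent.Lib.IA.SA
import Cfsg.Agent.Lib.T3.S5

/-! The Mathieu group `M₁₂` on 24 points, relators (generated data, lead). -/

set_option autoImplicit false
set_option maxRecDepth 1000000
set_option maxHeartbeats 0

namespace Cfsg.Lib.IA

open Cfsg.Lib.Calc Cfsg.Lib.Grp Cfsg.Lib.T2 Cfsg.Lib.T3

/-- relators for `g` -/
def relBg : List W := [.mul (.l 8) (.l 8), .mul (.mul (.mul (.l 8) (.l 5)) (.inv (.l 8))) (.inv (.l 1)), .mul (.mul (.mul (.l 8) (.l 2)) (.inv (.l 8))) (.inv (.mul (.mul (.mul (.l 1) (.l 2)) (.l 3)) (.l 7))), .mul (.mul (.mul (.l 8) (.l 3)) (.inv (.l 8))) (.inv (.l 3)), .mul (.mul (.mul (.l 8) (.l 7)) (.inv (.l 8))) (.inv (.l 7)), .pow (.mul (.l 4) (.l 8)) 3]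

/-- relators for `h` -/
def relBh : List W := [.mul (.l 9) (.l 9), .pow (.mul (.l 9) (.l 3)) 2, .pow (.mul (.l 9) (.l 4)) 2, .pow (.mul (.l 9) (.l 8)) 2, .pow (.mul (.mul (.l 9) (.l 4)) (.l 5)) 3, .mul (.mul (.mul (.mul (.mul (.l 6) (.l 9)) (.l 4)) (.l 5)) (.inv (.l 6))) (.inv (.mul (.mul (.l 9) (.l 4)) (.l 5)))]

/-- relators of `M₁₂` -/
def relM : List W := relHB ++ relBg ++ relBh

/-- relators of `S₃` -/
def relD : List W := [.mul (.l 4) (.l 4), .mul (.l 8) (.l 8), .pow (.mul (.l 4) (.l 8)) 3]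

def mb_L0 : List (ℕ × List ℕ) := [((nat_lit 0), [(nat_lit 0xbdab49ca307b9ac5a928398a418820), (nat_lit 0x8da957b6e89964c5a930399c410c01), (nat_lit 0x72e959b4b07de4cb28c83a62408062), (nat_lit 0x8d6cb526ec394d0a4e447b5c800443), (nat_lit 0xb5e957c17299d028942d7014323126), (nat_lit 0xb5e2b70aac3ccd0a14207b54324928), (nat_lit 0x5deb49a2cd7aa0289432700e3610c9), (nat_lit 0x3c6b47a1529da02b940d705634988c), (nat_lit 0x9d1717194c3d850b95a0786a34a092), (nat_lit 0x5d2f1286c272812abe039a0ed32584), (nat_lit 0xac5763b28953c81bb84628e604424d), (nat_lit 0x9c576a35e9a9e432dc467014123110)]),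
  ((nat_lit 4), [(nat_lit 0xbdab49ca307b9ac5a928398a418820), (nat_lit 0x3d6f4889cd594c455a419a1e980d80), (nat_lit 0xbae957b6289ba44b1cd0524ac18820), (nat_lit 0x9dcf470ca653d09b544c885726c080), (nat_lit 0x552f5889d2b152c3ada17c26640c80), (nat_lit 0xabe962c2663c52c55da3591c114900), (nat_lit 0x89e742c1e8b2c32adc647314233520), (nat_lit 0x7dd5570ca93ce065d044886cd92180), (nat_lit 0xb50f770ca2abe449a8cc5b6280c120), (nat_lit 0x74e347b561aa982b9e09292c341a40), (nat_lit 0x2d576889c4b9c6d7d24c9a15049820)]),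
  ((nat_lit 1), [(nat_lit 0xbdab49ca307b9ac5a928398a418820), (nat_lit 0x3aa97599c189449acd0db49e480d80), (nat_lit 0xac6e7986cd5ba067a848a30a41a640), (nat_lit 0xa1d75519e32c5019d989bc9c413600), (nat_lit 0xb4ee7ac8ac73c68a2da251a240c120), (nat_lit 0xa28f57b1d2b1522bcd108856468cc0), (nat_lit 0x3d1f7531632d9129c4c2a85c44c1a0), (nat_lit 0xade6bb48a273d3051c2ca1a246a060), (nat_lit 0x52cf6a19e92c60dbd4439c9c460500), (nat_lit 0x8ceb4b84a672c683be09532c493440)]),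
  ((nat_lit 2), [(nat_lit 0xbdab49ca307b9ac5a928398a418820), (nat_lit 0xace27b08ac52d03a3e1271ae44b420), (nat_lit 0x59dd3a314da94c8bda028a5e41c820), (nat_lit 0x5a9f3a08e92d612bc4ccb35c41a020), (nat_lit 0x751513c9e8b5c439d5ac2a56481820), (nat_lit 0x7d0f6521d28dd8399522ab56434020), (nat_lit 0xbc4b49a2c673d2259db2542a41b020), (nat_lit 0x2ceca8b2a23ae43a38c87c2e46a420), (nat_lit 0xa96e7b4a665aa0da39027b22448c20)]),
  ((nat_lit 3), [(nat_lit 0xbdab49ca307b9ac5a928398a418820), (nat_lit 0xa397638de88dcd2acd8d2c14448820), (nat_lit 0x9962ab42a959e487b9a3a32e430820), (nat_lit 0x75177531e68d909a94709b4e490820), (nat_lit 0x2ce27bb6b25a9267d20c70ec440820), (nat_lit 0xb5eae2a62d7d20359e465226460820), (nat_lit 0x51de5a1963acd908d912ba5c468820), (nat_lit 0x3a9f37216ca946d8dcc9b4a8480820)])]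

def mb_D0 : List ℕ := [(nat_lit 0), (nat_lit 513), (nat_lit 1025), (nat_lit 2049), (nat_lit 4097), (nat_lit 4609), (nat_lit 184322), (nat_lit 212994), (nat_lit 225794), (nat_lit 257026), (nat_lit 288770), (nat_lit 304130), (nat_lit 0), (nat_lit 17483523), (nat_lit 2561), (nat_lit 1492641540), (nat_lit 614914), (nat_lit 1957500676), (nat_lit 2273754884), (nat_lit 744962), (nat_lit 2905075460), (nat_lit 3448358660), (nat_lit 3923992836), (nat_lit 0), (nat_lit 3901837060), (nat_lit 67930883), (nat_lit 2884417796), (nat_lit 527030802181), (nat_lit 7721750276), (nat_lit 8831261444), (nat_lit 758928867589), (nat_lit 863330014981), (nat_lit 11325955844), (nat_lit 0), (nat_lit 103418034515718), (nat_lit 124767874065670), (nat_lit 132158252498694), (nat_lit 0x37c3ce1f63a107), (nat_lit 0x3f3aac9436b307), (nat_lit 0x49303a64af1d07), (nat_lit 0x563e206f412b07), (nat_lit 0x6524b022335107),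 (nat_lit 0), (nat_lit 0x750af1f7f5cd07), (nat_lit 0x3872809a6a6bbf08), (nat_lit 0x713a1ac0563d07), (nat_lit 0x472d929bd9f30d08), (nat_lit 0x5ef07d2afac44508), (nat_lit 0x3097245603e3ecf709), (nat_lit 0x37b1ed51960c15a709)]

def mb_L1 : List (ℕ × List ℕ) := [((nat_lit 0), [(nat_lit 0xbdab49ca307b9ac5a928398a418820), (nat_lit 0x8da957b6e89964c5a930399c410c01), (nat_lit 0x72e959b4b07de4cb28c83a62408062), (nat_lit 0x8d6cb526ec394d0a4e447b5c800443)]),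
  ((nat_lit 4), [(nat_lit 0xbdab49ca307b9ac5a928398a418820), (nat_lit 0x73ecb518a43c5329d50ca42ed10c20), (nat_lit 0x2d5475b1c6b5c88a4da97ca3010c20), (nat_lit 0x89df3ac2eda150655992591c918820), (nat_lit 0x7526f542e439509ada4c5b62618440), (nat_lit 0x2d0eab11c95dd90abe469b62810c20), (nat_lit 0xb9d76998b07c52d55588a11d210460), (nat_lit 0xbae957b6289ba44b1cd0524ac18820)]),
  ((nat_lit 1), [(nat_lit 0xbdab49ca307b9ac5a928398a418820), (nat_lit 0x8cecbaa4ada38cc7a9123c2e408c40), (nat_lit 0xbd6cb998a87b92ca1db054a2408860)]),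
  ((nat_lit 2), [(nat_lit 0xbdab49ca307b9ac5a928398a418820), (nat_lit 0x8da6fac2f2a390c59ccd524a410c20)])]

def mb_D1 : List ℕ := [(nat_lit 0), (nat_lit 513), (nat_lit 1025), (nat_lit 2049), (nat_lit 0), (nat_lit 3905795), (nat_lit 4127491), (nat_lit 184893700), (nat_lit 216066), (nat_lit 308492548), (nat_lit 279810), (nat_lit 485880068), (nat_lit 0), (nat_lit 3073), (nat_lit 15012611), (nat_lit 0), (nat_lit 543746)]

def mb_L2 : List (ℕ × List ℕ) := [((nat_lit 4), [(nat_lit 0xbdab49ca307b9ac5a928398a418820), (nat_lit 0xbae957b6289ba44b1cd0524ac18820), (nat_lit 0x2aa6faa1cda46063d8925b2e908062), (nat_lit 0x29df3a41d2ac50952d8db12e608062)]),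
  ((nat_lit 0), [(nat_lit 0xbdab49ca307b9ac5a928398a418820), (nat_lit 0x8da957b6e89964c5a930399c410c01), (nat_lit 0x72e959b4b07de4cb28c83a62408062), (nat_lit 0x2aeb47c9c89c5acb28d03a6e400443)]),
  ((nat_lit 2), [(nat_lit 0xbdab49ca307b9ac5a928398a418820), (nat_lit 0x8da6fac2f2a390c59ccd524a410c20)])]

def mb_D2 : List ℕ := [(nat_lit 0), (nat_lit 513), (nat_lit 2049), (nat_lit 66562), (nat_lit 0), (nat_lit 1025), (nat_lit 1537), (nat_lit 147970), (nat_lit 0), (nat_lit 80642)]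

def mb_L3 : List (ℕ × List ℕ) := [((nat_lit 0), [(nat_lit 0xbdab49ca307b9ac5a928398a418820), (nat_lit 0x8da957b6e89964c5a930399c410c01), (nat_lit 0x72e959b4b07de4cb28c83a62408062), (nat_lit 0x8d6cb526ec394d0a4e447b5c800443)]),
  ((nat_lit 4), [(nat_lit 0xbdab49ca307b9ac5a928398a418820), (nat_lit 0x89df3ac2eda150655992591c918820), (nat_lit 0x2bd47b11c65c5929d209aa2ed18820), (nat_lit 0x8aa6fa22f2a96093ac8db31c618820), (nat_lit 0x2ccea5b1c9b448d7d506a42f218820), (nat_lit 0xbae957b6289ba44b1cd0524ac18820), (nat_lit 0x75576518ac3dd28a3e449b63018820), (nat_lit 0x752cb3a4a455cd0acdac7ca2818820)])]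

def mb_D3 : List ℕ := [(nat_lit 0), (nat_lit 513), (nat_lit 1025), (nat_lit 2049), (nat_lit 0), (nat_lit 91650), (nat_lit 2694915), (nat_lit 50946), (nat_lit 2864899), (nat_lit 5193219), (nat_lit 189320964), (nat_lit 225569028)]

def mb_L4 : List (ℕ × List ℕ) := [((nat_lit 4), [(nat_lit 0xbdab49ca307b9ac5a928398a418820), (nat_lit 0xbae957b6289ba44b1cd0524ac18820)]),
  ((nat_lit 0), [(nat_lit 0xbdab49ca307b9ac5a928398a418820), (nat_lit 0x8da957b6e89964c5a930399c410c01), (nat_lit 0x72e959b4b07de4cb28c83a62408062), (nat_lit 0x2aeb47c9c89c5acb28d03a6e400443)])]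

def mb_D4 : List ℕ := [(nat_lit 0), (nat_lit 513), (nat_lit 0), (nat_lit 1025), (nat_lit 1537), (nat_lit 66050)]

def mb_L5 : List (ℕ × List ℕ) := [((nat_lit 0), [(nat_lit 0xbdab49ca307b9ac5a928398a418820), (nat_lit 0x2aa6faa1cda46063d8925b2e908062), (nat_lit 0x8da957b6e89964c5a930399c410c01), (nat_lit 0x729f3a40b2add063d88d5b22900443)]),
  ((nat_lit 4), [(nat_lit 0xbdab49ca307b9ac5a928398a418820), (nat_lit 0xbae957b6289ba44b1cd0524ac18820)])]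

def mb_D5 : List ℕ := [(nat_lit 0), (nat_lit 513), (nat_lit 1537), (nat_lit 37378), (nat_lit 0), (nat_lit 1025)]

def mb_L6 : List (ℕ × List ℕ) := [((nat_lit 0), [(nat_lit 0xbdab49ca307b9ac5a928398a418820), (nat_lit 0x2aa6faa1cda46063d8925b2e908062), (nat_lit 0x8da957b6e89964c5a930399c410c01), (nat_lit 0x8d6cb526ec394d0a4e447b5c800443), (nat_lit 0xb5e957c17299d028942d7014323126), (nat_lit 0x515f3a34e8aae4075c7088ac14988c), (nat_lit 0x5deb49a2cd7aa0289432700e3610c9), (nat_lit 0x5d2f1286c272812abe039a0ed32584), (nat_lit 0xac5763b28953c81bb84628e604424d), (nat_lit 0x9b8ea599e4b51232c40cb86a293510), (nat_lit 0xa46cb512a63cd81bb84928de0821b2), (nat_lit 0xa2e3770aa12cc69b1d80511e66ca08)]),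
  ((nat_lit 4), [(nat_lit 0xbdab49ca307b9ac5a928398a418820), (nat_lit 0x2bd47b11c65c5929d209aa2ed18820), (nat_lit 0x2ccea5b1c9b448d7d506a42f218820), (nat_lit 0xbae957b6289ba44b1cd0524ac18820)])]

def mb_D6 : List ℕ := [(nat_lit 0), (nat_lit 513), (nat_lit 1537), (nat_lit 2049), (nat_lit 2561), (nat_lit 81410), (nat_lit 100866), (nat_lit 122370), (nat_lit 145410), (nat_lit 171010), (nat_lit 198658), (nat_lit 228354), (nat_lit 0), (nat_lit 5257475), (nat_lit 6649603), (nat_lit 727140612)]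

def mb_L7 : List (ℕ × List ℕ) := [((nat_lit 0), [(nat_lit 0xbdab49ca307b9ac5a928398a418820), (nat_lit 0x2aa6faa1cda46063d8925b2e908062), (nat_lit 0x8da957b6e89964c5a930399c410c01), (nat_lit 0x8d6cb526ec394d0a4e447b5c800443), (nat_lit 0xb5e957c17299d028942d7014323126), (nat_lit 0xb5e2b70aac3ccd0a14207b54324928), (nat_lit 0x515f3a34e8aae4075c7088ac14988c), (nat_lit 0x515c7882665d58d7dc62a42c14a092), (nat_lit 0x5deb49a2cd7aa0289432700e3610c9), (nat_lit 0x5d2f1286c272812abe039a0ed32584), (nat_lit 0xac5763b28953c81bb84628e604424d), (nat_lit 0x5de3670a8453d28a94209c8e3634d0)]),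
  ((nat_lit 4), [(nat_lit 0xbdab49ca307b9ac5a928398a418820), (nat_lit 0x2bd47b11c65c5929d209aa2ed18820), (nat_lit 0x2ccea5b1c9b448d7d506a42f218820), (nat_lit 0xbae957b6289ba44b1cd0524ac18820), (nat_lit 0x5ded5512289ba4da14697c0e130980)]),
  ((nat_lit 1), [(nat_lit 0xbdab49ca307b9ac5a928398a418820), (nat_lit 0x3a9e5a35c3bc4329d930aa16430980), (nat_lit 0x7a8f35b1c8ac6412d926b8e84809a0), (nat_lit 0xadaeb286263b98da29237c26440a40)])]

def mb_D7 : List ℕ := [(nat_lit 0), (nat_lit 513), (nat_lit 1537), (nat_lit 2049), (nat_lit 2561), (nat_lit 3073), (nat_lit 109058), (nat_lit 117762), (nat_lit 140802), (nat_lit 166402), (nat_lit 193538), (nat_lit 222210), (nat_lit 0), (nat_lit 6640387), (nat_lit 8229635), (nat_lit 880308996), (nat_lit 1015216388), (nat_lit 0), (nat_lit 21844227), (nat_lit 19484419), (nat_lit 2041010436)]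

def mb_L8 : List (ℕ × List ℕ) := [((nat_lit 0), [(nat_lit 0xbdab49ca307b9ac5a928398a418820), (nat_lit 0x2aa6faa1cda46063d8925b2e908062), (nat_lit 0x8da957b6e89964c5a930399c410c01), (nat_lit 0x8d6cb526ec394d0a4e447b5c800443)]),
  ((nat_lit 4), [(nat_lit 0xbdab49ca307b9ac5a928398a418820), (nat_lit 0x2bd47b11c65c5929d209aa2ed18820), (nat_lit 0x2ccea5b1c9b448d7d506a42f218820), (nat_lit 0xbae957b6289ba44b1cd0524ac18820)])]

def mb_D8 : List ℕ := [(nat_lit 0), (nat_lit 513), (nat_lit 1537), (nat_lit 2049), (nat_lit 0), (nat_lit 1273603), (nat_lit 1788675), (nat_lit 72601348)]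

def mb_L9 : List (ℕ × List ℕ) := [((nat_lit 0), [(nat_lit 0xbdab49ca307b9ac5a928398a418820), (nat_lit 0x8da957b6e89964c5a930399c410c01), (nat_lit 0x2aa6faa1cda46063d8925b2e908062), (nat_lit 0x729f3a40b2add063d88d5b22900443)]),
  ((nat_lit 2), [(nat_lit 0xbdab49ca307b9ac5a928398a418820), (nat_lit 0xb9eb47b6309964652c88b31c910c20)])]

def mb_D9 : List ℕ := [(nat_lit 0), (nat_lit 513), (nat_lit 1025), (nat_lit 36866), (nat_lit 0), (nat_lit 30466)]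

def mb_L10 : List (ℕ × List ℕ) := [((nat_lit 0), [(nat_lit 0xbdab49ca307b9ac5a928398a418820), (nat_lit 0x2d9f3aa1d2a5e045a8cd3a62c00462), (nat_lit 0x75a6fa40adac5045a8d23a6ec08043), (nat_lit 0x8da957b6e89964c5a930399c410c01)]),
  ((nat_lit 2), [(nat_lit 0xbdab49ca307b9ac5a928398a418820), (nat_lit 0xbaa959ca28795a93d990591c610c20)])]

def mb_D10 : List ℕ := [(nat_lit 0), (nat_lit 513), (nat_lit 769), (nat_lit 25090), (nat_lit 0), (nat_lit 1025)]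

def mb_L11 : List (ℕ × List ℕ) := [((nat_lit 4), [(nat_lit 0xbdab49ca307b9ac5a928398a418820), (nat_lit 0xbae957b6289ba44b1cd0524ac18820), (nat_lit 0x89e959cae87b9a652c90b30a918801), (nat_lit 0x8aab47b6f09ba493d988590a618801)]),
  ((nat_lit 0), [(nat_lit 0xbdab49ca307b9ac5a928398a418820), (nat_lit 0x8da957b6e89964c5a930399c410c01)])]

def mb_D11 : List ℕ := [(nat_lit 0), (nat_lit 513), (nat_lit 1537), (nat_lit 37378), (nat_lit 0), (nat_lit 1025)]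

def mb_L12 : List (ℕ × List ℕ) := [((nat_lit 4), [(nat_lit 0xbdab49ca307b9ac5a928398a418820), (nat_lit 0xbae957b6289ba44b1cd0524ac18820)]),
  ((nat_lit 0), [(nat_lit 0xbdab49ca307b9ac5a928398a418820), (nat_lit 0x72e959b4b07de4cb28c83a62408062)])]

def mb_D12 : List ℕ := [(nat_lit 0), (nat_lit 513), (nat_lit 0), (nat_lit 1025)]

def mb_L13 : List (ℕ × List ℕ) := [((nat_lit 0), [(nat_lit 0xbdab49ca307b9ac5a928398a418820), (nat_lit 0x89e959cae87b9a652c90b30a918801)])]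

def mb_D13 : List ℕ := [(nat_lit 0), (nat_lit 513)]

def mb : PM :=
  ⟨(nat_lit 24), (nat_lit 5), [(nat_lit 0x8da957b6e89964c5a930399c410c01), (nat_lit 0x72e959b4b07de4cb28c83a62408062), (nat_lit 0x2aa6faa1cda46063d8925b2e908062), (nat_lit 0x8d6cb526ec394d0a4e447b5c800443), (nat_lit 0xbae957b6289ba44b1cd0524ac18820), (nat_lit 0x8cecbaa4ada38cc7a9123c2e408c40), (nat_lit 0x8adf3a22edaba04b2932398ac10c20), (nat_lit 0xb5e957c17299d028942d7014323126), (nat_lit 0xb5e2b70aac3ccd0a14207b54324928)],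
    [[.l 1, .l 2, .l 3, .l 4, .l 5, .l 6, .l 7, .l 8, .l 9],
    [.l 1, .l 2, .l 3, .l 4, .l 5, .l 6, .l 7],
    [.l 5, .l 1, .l 2, .l 3, .l 7],
    [.l 1, .l 2, .l 3, .l 4, .l 5],
    [.l 5, .l 1, .l 2],
    [.l 3, .l 5, .l 1],
    [.l 3, .l 5, .l 1, .l 4, .l 8],
    [.l 3, .l 5, .l 1, .l 4, .l 8, .l 9],
    [.l 3, .l 5, .l 1, .l 4],
    [.l 1, .l 3, .mul (.mul (.mul (.l 1) (.l 2)) (.l 3)) (.l 7)],
    [.mul (.l 2) (.l 7), .mul (.mul (.mul (.l 2) (.l 3)) (.l 5)) (.l 7)],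
    [.l 5, .l 1, .mul (.mul (.mul (.l 1) (.l 2)) (.l 3)) (.l 7)],
    [.l 5, .l 2],
    [.mul (.mul (.mul (.l 1) (.l 2)) (.l 3)) (.l 7)]],
    [mb_L0, mb_L1, mb_L2, mb_L3, mb_L4, mb_L5, mb_L6, mb_L7, mb_L8, mb_L9, mb_L10, mb_L11, mb_L12, mb_L13], [mb_D0, mb_D1, mb_D2, mb_D3, mb_D4, mb_D5, mb_D6, mb_D7, mb_D8, mb_D9, mb_D10, mb_D11, mb_D12, mb_D13]⟩

instance mb_ne : NeZero mb.n := ⟨by decide⟩

theorem mb_ok0 : mb.ok0 = true := by decide +kernel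

theorem mb_k0 : allFrom (nat_lit 0) (nat_lit 1) mb.okK = true := by decide +kernel

theorem mb_k1 : allFrom (nat_lit 1) (nat_lit 1) mb.okK = true := by decide +kernel

theorem mb_k2 : allFrom (nat_lit 2) (nat_lit 1) mb.okK = true := by decide +kernel

theorem mb_k3 : allFrom (nat_lit 3) (nat_lit 1) mb.okK = true := by decide +kernel

theorem mb_k4 : allFrom (nat_lit 4) (nat_lit 1) mb.okK = true := by decide +kernel

theorem mb_k5 : allFrom (nat_lit 5) (nat_lit 1) mb.okK = true := by decide +kernel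

theorem mb_k6 : allFrom (nat_lit 6) (nat_lit 1) mb.okK = true := by decide +kernel

theorem mb_k7 : allFrom (nat_lit 7) (nat_lit 1) mb.okK = true := by decide +kernel

theorem mb_k8 : allFrom (nat_lit 8) (nat_lit 1) mb.okK = true := by decide +kernel

theorem mb_k9 : allFrom (nat_lit 9) (nat_lit 1) mb.okK = true := by decide +kernel

theorem mb_k10 : allFrom (nat_lit 10) (nat_lit 1) mb.okK = true := by decide +kernel

theorem mb_k11 : allFrom (nat_lit 11) (nat_lit 1) mb.okK = true := by decide +kernel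

theorem mb_k12 : allFrom (nat_lit 12) (nat_lit 1) mb.okK = true := by decide +kernel

theorem mb_k13 : allFrom (nat_lit 13) (nat_lit 1) mb.okK = true := by decide +kernel

theorem mb_ok : mb.OK := PM.OK.of_check mb_ok0
  (of_allFrom_append (of_allFrom_append (of_allFrom_append (of_allFrom_append (of_allFrom_append (of_allFrom_append (of_allFrom_append (of_allFrom_append (of_allFrom_append (of_allFrom_append (of_allFrom_append (of_allFrom_append (of_allFrom_append (of_allFrom_append of_lt_zero mb_k0) mb_k1) mb_k2) mb_k3) mb_k4) mb_k5) mb_k6) mb_k7) mb_k8) mb_k9) mb_k10) mb_k11) mb_k12) mb_k13)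

theorem mb_card0 : Nat.card (genW mb.gam (mb.ws 0)) = 95040 := (mb_ok.card 0).trans (by decide +kernel)

theorem mb_card1 : Nat.card (genW mb.gam (mb.ws 1)) = 192 := (mb_ok.card 1).trans (by decide +kernel)

theorem mb_card2 : Nat.card (genW mb.gam (mb.ws 2)) = 32 := (mb_ok.card 2).trans (by decide +kernel)

theorem mb_card3 : Nat.card (genW mb.gam (mb.ws 3)) = 32 := (mb_ok.card 3).trans (by decide +kernel)

theorem mb_card4 : Nat.card (genW mb.gam (mb.ws 4)) = 8 := (mb_ok.card 4).trans (by decide +kernel)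

theorem mb_card5 : Nat.card (genW mb.gam (mb.ws 5)) = 8 := (mb_ok.card 5).trans (by decide +kernel)

theorem mb_card6 : Nat.card (genW mb.gam (mb.ws 6)) = 48 := (mb_ok.card 6).trans (by decide +kernel)

theorem mb_card7 : Nat.card (genW mb.gam (mb.ws 7)) = 240 := (mb_ok.card 7).trans (by decide +kernel)

theorem mb_card8 : Nat.card (genW mb.gam (mb.ws 8)) = 16 := (mb_ok.card 8).trans (by decide +kernel)

theorem mb_card9 : Nat.card (genW mb.gam (mb.ws 9)) = 8 := (mb_ok.card 9).trans (by decide +kernel)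

theorem mb_card10 : Nat.card (genW mb.gam (mb.ws 10)) = 8 := (mb_ok.card 10).trans (by decide +kernel)

theorem mb_card11 : Nat.card (genW mb.gam (mb.ws 11)) = 8 := (mb_ok.card 11).trans (by decide +kernel)

theorem mb_card12 : Nat.card (genW mb.gam (mb.ws 12)) = 4 := (mb_ok.card 12).trans (by decide +kernel)

theorem mb_card13 : Nat.card (genW mb.gam (mb.ws 13)) = 2 := (mb_ok.card 13).trans (by decide +kernel)

/-- a formula -/
def mb_cls_f : Fm := .all 1 40 [] (.imp (.one (.mul (.l 40) (.l 40))) (.or (.one (.l 40)) (.or (.eq (.l 40) (.l 5)) (.or (.ex 1 41 [(.l 1, .l 40)] (.tt)) (.or (.ex 1 41 [(.l 3, .l 40)] (.tt)) (.ex 1 41 [(.mul (.mul (.mul (.l 1) (.l 2)) (.l 3)) (.l 7), .l 40)] (.tt)))))))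

theorem mb_cls_ev : mb.eval mb_cls_f = true := by decide +kernel

theorem mb_cls {G : Type*} [Group G] {γ : ℕ → G} {k : ℕ} {N : List W} (g : Gf mb γ k N)
    (e : tyB mb k N mb_cls_f = true := by decide +kernel) :
    ∀ e ∈ genW γ (mb.ws 1), e * e = 1 → e = 1 ∨ e = γ 5 ∨ (∃ k ∈ genW γ (mb.ws 1), k * γ 1 = e * k ∧ True) ∨ (∃ k ∈ genW γ (mb.ws 1), k * γ 3 = e * k ∧ True) ∨ (∃ k ∈ genW γ (mb.ws 1), k * (γ 1 * γ 2 * γ 3 * γ 7) = e * k ∧ True) :=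
  g.transfer e mb_cls_ev

/-- a formula -/
def mb_clsQ_f : Fm := .all 3 40 [] (.imp (.one (.mul (.l 40) (.l 40))) (.or (.one (.l 40)) (.or (.eq (.l 40) (.l 5)) (.or (.ex 1 41 [(.l 1, .l 40)] (.tt)) (.ex 1 41 [(.l 3, .l 40)] (.tt))))))

theorem mb_clsQ_ev : mb.eval mb_clsQ_f = true := by decide +kernel

theorem mb_clsQ {G : Type*} [Group G] {γ : ℕ → G} {k : ℕ} {N : List W} (g : Gf mb γ k N)
    (e : tyB mb k N mb_clsQ_f = true := by decide +kernel) :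
    ∀ e ∈ genW γ (mb.ws 3), e * e = 1 → e = 1 ∨ e = γ 5 ∨ (∃ k ∈ genW γ (mb.ws 1), k * γ 1 = e * k ∧ True) ∨ (∃ k ∈ genW γ (mb.ws 1), k * γ 3 = e * k ∧ True) :=
  g.transfer e mb_clsQ_ev

/-- a formula -/
def mb_sq_f : Fm := .all 3 40 [] (.or (.one (.mul (.l 40) (.l 40))) (.eq (.mul (.l 40) (.l 40)) (.l 5)))

theorem mb_sq_ev : mb.eval mb_sq_f = true := by decide +kernel

theorem mb_sq {G : Type*} [Group G] {γ : ℕ → G} {k : ℕ} {N : List W} (g : Gf mb γ k N)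
    (e : tyB mb k N mb_sq_f = true := by decide +kernel) :
    ∀ q ∈ genW γ (mb.ws 3), q * q = 1 ∨ q * q = γ 5 :=
  g.transfer e mb_sq_ev

/-- a formula -/
def mb_cen_f : Fm := .all 1 40 [(.l 1, .l 1), (.l 2, .l 2), (.l 3, .l 3), (.l 4, .l 4)] (.or (.one (.l 40)) (.eq (.l 40) (.l 5)))

theorem mb_cen_ev : mb.eval mb_cen_f = true := by decide +kernel

theorem mb_cen {G : Type*} [Group G] {γ : ℕ → G} {k : ℕ} {N : List W} (g : Gf mb γ k N)
    (e : tyB mb k N mb_cen_f = true := by decide +kernel) :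
    ∀ e ∈ genW γ (mb.ws 1), e * γ 1 = γ 1 * e → e * γ 2 = γ 2 * e → e * γ 3 = γ 3 * e → e * γ 4 = γ 4 * e → e = 1 ∨ e = γ 5 :=
  g.transfer e mb_cen_ev

/-- a formula -/
def mb_V2_f : Fm := .all 4 40 [] (.one (.mul (.l 40) (.l 40)))

theorem mb_V2_ev : mb.eval mb_V2_f = true := by decide +kernel

theorem mb_V2 {G : Type*} [Group G] {γ : ℕ → G} {k : ℕ} {N : List W} (g : Gf mb γ k N)
    (e : tyB mb k N mb_V2_f = true := by decide +kernel) :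
    ∀ e ∈ genW γ (mb.ws 4), e * e = 1 :=
  g.transfer e mb_V2_ev

/-- a formula -/
def mb_cz_f : Fm := .all 0 40 [(.l 5, .l 5)] (.mem 1 (.l 40))

theorem mb_cz_ev : mb.eval mb_cz_f = true := by decide +kernel

theorem mb_cz {G : Type*} [Group G] {γ : ℕ → G} {k : ℕ} {N : List W} (g : Gf mb γ k N)
    (e : tyB mb k N mb_cz_f = true := by decide +kernel) :
    ∀ e ∈ genW γ (mb.ws 0), e * γ 5 = γ 5 * e → e ∈ genW γ (mb.ws 1) :=
  g.transfer e mb_cz_ev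

/-- a formula -/
def mb_nsq_f : Fm := .all 1 40 [] (.not (.eq (.mul (.l 40) (.l 40)) (.l 3)))

theorem mb_nsq_ev : mb.eval mb_nsq_f = true := by decide +kernel

theorem mb_nsq {G : Type*} [Group G] {γ : ℕ → G} {k : ℕ} {N : List W} (g : Gf mb γ k N)
    (e : tyB mb k N mb_nsq_f = true := by decide +kernel) :
    ∀ e ∈ genW γ (mb.ws 1), e * e ≠ γ 3 :=
  g.transfer e mb_nsq_ev

/-- a formula -/
def mb_Y_f : Fm := .all 1 40 [(.l 1, .l 1)] (.mem 2 (.l 40))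

theorem mb_Y_ev : mb.eval mb_Y_f = true := by decide +kernel

theorem mb_Y {G : Type*} [Group G] {γ : ℕ → G} {k : ℕ} {N : List W} (g : Gf mb γ k N)
    (e : tyB mb k N mb_Y_f = true := by decide +kernel) :
    ∀ e ∈ genW γ (mb.ws 1), e * γ 1 = γ 1 * e → e ∈ genW γ (mb.ws 2) :=
  g.transfer e mb_Y_ev

/-- a formula -/
def mb_ZY_f : Fm := .all 1 40 [(.l 1, .l 1), (.l 2, .l 2), (.l 3, .l 3), (.l 7, .l 7)] (.or (.one (.l 40)) (.or (.eq (.l 40) (.l 5)) (.or (.eq (.l 40) (.l 1)) (.eq (.l 40) (.mul (.l 1) (.l 5))))))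

theorem mb_ZY_ev : mb.eval mb_ZY_f = true := by decide +kernel

theorem mb_ZY {G : Type*} [Group G] {γ : ℕ → G} {k : ℕ} {N : List W} (g : Gf mb γ k N)
    (e : tyB mb k N mb_ZY_f = true := by decide +kernel) :
    ∀ e ∈ genW γ (mb.ws 1), e * γ 1 = γ 1 * e → e * γ 2 = γ 2 * e → e * γ 3 = γ 3 * e → e * γ 7 = γ 7 * e → e = 1 ∨ e = γ 5 ∨ e = γ 1 ∨ e = γ 1 * γ 5 :=
  g.transfer e mb_ZY_ev

/-- a formula -/
def mb_Cc_f : Fm := .all 1 40 [(.l 3, .l 3)] (.and (.mem 8 (.l 40)) (.imp (.one (.mul (.l 40) (.l 40))) (.or (.one (.l 40)) (.or (.eq (.l 40) (.l 5)) (.or (.eq (.l 40) (.l 1)) (.or (.eq (.l 40) (.mul (.l 1) (.l 5))) (.ex 1 41 [(.l 3, .mul (.l 40) (.l 5))] (.tt))))))))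

theorem mb_Cc_ev : mb.eval mb_Cc_f = true := by decide +kernel

theorem mb_Cc {G : Type*} [Group G] {γ : ℕ → G} {k : ℕ} {N : List W} (g : Gf mb γ k N)
    (e : tyB mb k N mb_Cc_f = true := by decide +kernel) :
    ∀ e ∈ genW γ (mb.ws 1), e * γ 3 = γ 3 * e → e ∈ genW γ (mb.ws 8) ∧ (e * e = 1 → e = 1 ∨ e = γ 5 ∨ e = γ 1 ∨ e = γ 1 * γ 5 ∨ (∃ k ∈ genW γ (mb.ws 1), k * γ 3 = e * γ 5 * k ∧ True)) :=
  g.transfer e mb_Cc_ev

/-- a formula -/
def mb_CV_f : Fm := .all 1 40 [(.l 1, .l 1), (.l 2, .l 2)] (.mem 4 (.l 40))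

theorem mb_CV_ev : mb.eval mb_CV_f = true := by decide +kernel

theorem mb_CV {G : Type*} [Group G] {γ : ℕ → G} {k : ℕ} {N : List W} (g : Gf mb γ k N)
    (e : tyB mb k N mb_CV_f = true := by decide +kernel) :
    ∀ e ∈ genW γ (mb.ws 1), e * γ 1 = γ 1 * e → e * γ 2 = γ 2 * e → e ∈ genW γ (mb.ws 4) :=
  g.transfer e mb_CV_ev

/-- a formula -/
def mb_Cu_f : Fm := .all 1 40 [(.mul (.mul (.mul (.l 1) (.l 2)) (.l 3)) (.l 7), .mul (.mul (.mul (.l 1) (.l 2)) (.l 3)) (.l 7))] (.and (.mem 11 (.l 40)) (.not (.eq (.mul (.l 40) (.l 40)) (.l 5))))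

theorem mb_Cu_ev : mb.eval mb_Cu_f = true := by decide +kernel

theorem mb_Cu {G : Type*} [Group G] {γ : ℕ → G} {k : ℕ} {N : List W} (g : Gf mb γ k N)
    (e : tyB mb k N mb_Cu_f = true := by decide +kernel) :
    ∀ e ∈ genW γ (mb.ws 1), e * (γ 1 * γ 2 * γ 3 * γ 7) = γ 1 * γ 2 * γ 3 * γ 7 * e → e ∈ genW γ (mb.ws 11) ∧ e * e ≠ γ 5 :=
  g.transfer e mb_Cu_ev

/-- a formula -/
def mb_Ve_f : Fm := .all 4 40 [(.mul (.l 7) (.l 6), .mul (.l 7) (.l 6))] (.mem 12 (.l 40))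

theorem mb_Ve_ev : mb.eval mb_Ve_f = true := by decide +kernel

theorem mb_Ve {G : Type*} [Group G] {γ : ℕ → G} {k : ℕ} {N : List W} (g : Gf mb γ k N)
    (e : tyB mb k N mb_Ve_f = true := by decide +kernel) :
    ∀ e ∈ genW γ (mb.ws 4), e * (γ 7 * γ 6) = γ 7 * γ 6 * e → e ∈ genW γ (mb.ws 12) :=
  g.transfer e mb_Ve_ev

/-- a formula -/
def mb_gW_f : Fm := .all 11 40 [] (.mem 4 (.mul (.mul (.l 8) (.l 40)) (.inv (.l 8))))

theorem mb_gW_ev : mb.eval mb_gW_f = true := by decide +kernel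

theorem mb_gW {G : Type*} [Group G] {γ : ℕ → G} {k : ℕ} {N : List W} (g : Gf mb γ k N)
    (e : tyB mb k N mb_gW_f = true := by decide +kernel) :
    ∀ e ∈ genW γ (mb.ws 11), γ 8 * e * (γ 8)⁻¹ ∈ genW γ (mb.ws 4) :=
  g.transfer e mb_gW_ev

/-- a formula -/
def mb_o2_f : Fm := .all 1 40 [] (.imp (.ex 1 41 [(.l 3, .l 40)] (.tt)) (.or (.eq (.mul (.l 40) (.l 1)) (.mul (.l 1) (.l 40))) (.or (.ex 1 41 [(.l 1, .l 1), (.l 4, .l 40)] (.tt)) (.ex 1 41 [(.l 1, .l 1), (.mul (.l 3) (.l 4), .l 40)] (.tt)))))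

theorem mb_o2_ev : mb.eval mb_o2_f = true := by decide +kernel

theorem mb_o2 {G : Type*} [Group G] {γ : ℕ → G} {k : ℕ} {N : List W} (g : Gf mb γ k N)
    (e : tyB mb k N mb_o2_f = true := by decide +kernel) :
    ∀ e ∈ genW γ (mb.ws 1), (∃ k ∈ genW γ (mb.ws 1), k * γ 3 = e * k ∧ True) → e * γ 1 = γ 1 * e ∨ (∃ k ∈ genW γ (mb.ws 1), k * γ 1 = γ 1 * k ∧ k * γ 4 = e * k ∧ True) ∨ (∃ k ∈ genW γ (mb.ws 1), k * γ 1 = γ 1 * k ∧ k * (γ 3 * γ 4) = e * k ∧ True) :=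
  g.transfer e mb_o2_ev

/-- a formula -/
def mb_o3_f : Fm := .all 1 40 [] (.imp (.ex 1 41 [(.l 3, .l 40)] (.tt)) (.or (.eq (.mul (.l 40) (.l 1)) (.mul (.l 1) (.l 40))) (.or (.ex 1 41 [(.mul (.mul (.mul (.mul (.l 5) (.l 1)) (.l 2)) (.l 3)) (.l 7), .mul (.mul (.mul (.mul (.l 5) (.l 1)) (.l 2)) (.l 3)) (.l 7)), (.l 4, .l 40)] (.tt)) (.ex 1 41 [(.mul (.mul (.mul (.mul (.l 5) (.l 1)) (.l 2)) (.l 3)) (.l 7), .mul (.mul (.mul (.mul (.l 5) (.l 1)) (.l 2)) (.l 3)) (.l 7)), (.mul (.l 3) (.l 4), .l 40)] (.tt)))))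

theorem mb_o3_ev : mb.eval mb_o3_f = true := by decide +kernel

theorem mb_o3 {G : Type*} [Group G] {γ : ℕ → G} {k : ℕ} {N : List W} (g : Gf mb γ k N)
    (e : tyB mb k N mb_o3_f = true := by decide +kernel) :
    ∀ e ∈ genW γ (mb.ws 1), (∃ k ∈ genW γ (mb.ws 1), k * γ 3 = e * k ∧ True) → e * γ 1 = γ 1 * e ∨ (∃ k ∈ genW γ (mb.ws 1), k * (γ 5 * γ 1 * γ 2 * γ 3 * γ 7) = γ 5 * γ 1 * γ 2 * γ 3 * γ 7 * k ∧ k * γ 4 = e * k ∧ True) ∨ (∃ k ∈ genW γ (mb.ws 1), k * (γ 5 * γ 1 * γ 2 * γ 3 * γ 7) = γ 5 * γ 1 * γ 2 * γ 3 * γ 7 * k ∧ k * (γ 3 * γ 4) = e * k ∧ True) :=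
  g.transfer e mb_o3_ev

/-- a formula -/
def mb_K_f : Fm := .all 6 40 [] (.imp (.one (.mul (.l 40) (.l 40))) (.or (.eq (.mul (.l 40) (.l 5)) (.mul (.l 5) (.l 40))) (.or (.eq (.mul (.l 40) (.l 1)) (.mul (.l 1) (.l 40))) (.eq (.mul (.l 40) (.mul (.l 1) (.l 5))) (.mul (.mul (.l 1) (.l 5)) (.l 40))))))

theorem mb_K_ev : mb.eval mb_K_f = true := by decide +kernel

theorem mb_K {G : Type*} [Group G] {γ : ℕ → G} {k : ℕ} {N : List W} (g : Gf mb γ k N)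
    (e : tyB mb k N mb_K_f = true := by decide +kernel) :
    ∀ e ∈ genW γ (mb.ws 6), e * e = 1 → e * γ 5 = γ 5 * e ∨ e * γ 1 = γ 1 * e ∨ e * (γ 1 * γ 5) = γ 1 * γ 5 * e :=
  g.transfer e mb_K_ev

/-- a formula -/
def mb_aut_f : Fm := .all 2 40 [] (.imp (.one (.mul (.l 40) (.l 40))) (.all 2 41 [] (.imp (.one (.mul (.l 41) (.l 41))) (.imp (.eq (.pow (.mul (.l 40) (.l 41)) 2) (.l 1)) (.imp (.and (.imp (.one (.mul (.l 3) (.l 41))) (.one (.mul (.l 41) (.l 3)))) (.and (.imp (.eq (.mul (.l 3) (.l 41)) (.l 5)) (.eq (.mul (.l 41) (.l 3)) (.l 1))) (.and (.imp (.eq (.mul (.l 3) (.l 41)) (.l 1)) (.eq (.mul (.l 41) (.l 3)) (.l 5))) (.imp (.eq (.mul (.l 3) (.l 41)) (.mul (.l 1) (.l 5))) (.eq (.mul (.l 41) (.l 3)) (.mul (.l 5) (.l 1))))))) (.imp (.and (.imp (.one (.mul (.l 40) (.l 3))) (.one (.mul (.l 2) (.l 41)))) (.and (.imp (.eq (.mul (.l 40) (.l 3)) (.l 5)) (.eq (.mul (.l 2) (.l 41))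 (.l 1))) (.and (.imp (.eq (.mul (.l 40) (.l 3)) (.l 1)) (.eq (.mul (.l 2) (.l 41)) (.l 5))) (.imp (.eq (.mul (.l 40) (.l 3)) (.mul (.l 1) (.l 5))) (.eq (.mul (.l 2) (.l 41)) (.mul (.l 5) (.l 1))))))) (.imp (.and (.imp (.one (.mul (.l 41) (.l 2))) (.one (.mul (.l 3) (.l 40)))) (.and (.imp (.eq (.mul (.l 41) (.l 2)) (.l 5)) (.eq (.mul (.l 3) (.l 40)) (.l 1))) (.and (.imp (.eq (.mul (.l 41) (.l 2)) (.l 1)) (.eq (.mul (.l 3) (.l 40)) (.l 5))) (.imp (.eq (.mul (.l 41) (.l 2)) (.mul (.l 1) (.l 5))) (.eq (.mul (.l 3) (.l 40)) (.mul (.l 5) (.l 1))))))) (.all 2 42 [(.l 40, .mul (.l 5) (.l 40)), (.l 41, .mul (.mul (.l 5) (.l 41)) (.l 1))] (.imp (.one (.mul (.l 42) (.l 42))) (.imp (.and (.imp (.one (.mul (.l 7) (.l 42))) (.one (.mul (.l 42) (.l 7)))) (.and (.imp (.eq (.mul (.l 7) (.l 42)) (.l 5)) (.eq (.mul (.l 42) (.l 7)) (.l 1))) (.and (.imp (.eq (.mul (.l 7) (.l 42)) (.l 1)) (.eq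 (.mul (.l 42) (.l 7)) (.l 5))) (.imp (.eq (.mul (.l 7) (.l 42)) (.mul (.l 1) (.l 5))) (.eq (.mul (.l 42) (.l 7)) (.mul (.l 5) (.l 1))))))) (.imp (.and (.imp (.one (.mul (.mul (.mul (.l 40) (.l 7)) (.l 3)) (.l 2))) (.one (.mul (.mul (.mul (.l 2) (.l 42)) (.l 41)) (.l 40)))) (.and (.imp (.eq (.mul (.mul (.mul (.l 40) (.l 7)) (.l 3)) (.l 2)) (.l 5)) (.eq (.mul (.mul (.mul (.l 2) (.l 42)) (.l 41)) (.l 40)) (.l 1))) (.and (.imp (.eq (.mul (.mul (.mul (.l 40) (.l 7)) (.l 3)) (.l 2)) (.l 1)) (.eq (.mul (.mul (.mul (.l 2) (.l 42)) (.l 41)) (.l 40)) (.l 5))) (.imp (.eq (.mul (.mul (.mul (.l 40) (.l 7)) (.l 3)) (.l 2)) (.mul (.l 1) (.l 5))) (.eq (.mul (.mul (.mul (.l 2) (.l 42)) (.l 41)) (.l 40)) (.mul (.l 5) (.l 1))))))) (.or (.and (.mem 4 (.l 40)) (.ex 1 43 [(.mul (.mul (.mul (.l 1) (.l 2)) (.l 3)) (.l 7), .l 41)] (.tt))) (.or (.ex 2 43 [(.l 40, .mul (.mul (.mul (.l 1) (.l 2)) (.l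 3)) (.l 7)), (.l 41, .l 3), (.l 42, .l 7)] (.tt)) (.ex 2 43 [(.l 40, .mul (.mul (.mul (.l 1) (.l 2)) (.l 3)) (.mul (.l 7) (.l 5))), (.l 41, .l 3), (.l 42, .mul (.mul (.l 7) (.l 5)) (.l 1))] (.tt)))))))))))))))

theorem mb_aut_ev : mb.eval mb_aut_f = true := by decide +kernel

theorem mb_aut {G : Type*} [Group G] {γ : ℕ → G} {k : ℕ} {N : List W} (g : Gf mb γ k N)
    (e : tyB mb k N mb_aut_f = true := by decide +kernel) :
    ∀ p ∈ genW γ (mb.ws 2), p * p = 1 → ∀ q ∈ genW γ (mb.ws 2), q * q = 1 → (p * q) ^ 2 = γ 1 → (γ 3 * q = 1 → q * γ 3 = 1) ∧ (γ 3 * q = γ 5 → q * γ 3 = γ 1) ∧ (γ 3 * q = γ 1 → q * γ 3 = γ 5) ∧ (γ 3 * q = γ 1 * γ 5 → q * γ 3 = γ 5 * γ 1) → (p * γ 3 = 1 → γ 2 * q = 1) ∧ (p * γ 3 = γ 5 → γ 2 * q = γ 1) ∧ (p * γ 3 = γ 1 → γ 2 * q = γ 5) ∧ (p * γ 3 = γ 1 * γ 5 → γ 2 * q = γ 5 * γ 1) → (q * γ 2 = 1 → γ 3 * p = 1) ∧ (q * γ 2 = γ 5 → γ 3 * p = γ 1) ∧ (q * γ 2 = γ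 1 → γ 3 * p = γ 5) ∧ (q * γ 2 = γ 1 * γ 5 → γ 3 * p = γ 5 * γ 1) → ∀ r ∈ genW γ (mb.ws 2), r * p = γ 5 * p * r → r * q = γ 5 * q * γ 1 * r → r * r = 1 → (γ 7 * r = 1 → r * γ 7 = 1) ∧ (γ 7 * r = γ 5 → r * γ 7 = γ 1) ∧ (γ 7 * r = γ 1 → r * γ 7 = γ 5) ∧ (γ 7 * r = γ 1 * γ 5 → r * γ 7 = γ 5 * γ 1) → (p * γ 7 * γ 3 * γ 2 = 1 → γ 2 * r * q * p = 1) ∧ (p * γ 7 * γ 3 * γ 2 = γ 5 → γ 2 * r * q * p = γ 1) ∧ (p * γ 7 * γ 3 * γ 2 = γ 1 → γ 2 * r * q * p = γ 5) ∧ (p * γ 7 * γ 3 * γ 2 = γ 1 * γ 5 → γ 2 * r * q * p = γ 5 * γ 1) → p ∈ genW γ (mb.ws 4) ∧ (∃ k ∈ genW γ (mb.ws 1), k * (γ 1 * γ 2 * γ 3 * γ 7) = q * k ∧ True) ∨ (∃ y ∈ genW γ (mb.ws 2), y * p = γ 1 * γ 2 * γ 3 * γ 7 * y ∧ y * q = γ 3 * y ∧ y * r = γ 7 * y ∧ True) ∨ (∃ y ∈ genW γ (mb.ws 2), y * p = γ 1 * γ 2 * γ 3 * (γ 7 * γ 5) * y ∧ y * q = γ 3 * y ∧ y * r = γ 7 * γ 5 * γ 1 * y ∧ True) :=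
  g.transfer e mb_aut_ev

theorem s5_c : ∀ p ∈ genW s5.gam (s5.ws 0), p * p = 1 → ∀ r ∈ genW s5.gam (s5.ws 0), r * p = p * r → r * r = 1 → p * r ≠ 1 → ∀ q ∈ genW s5.gam (s5.ws 0), q * q = 1 → (p * q) ^ 3 = 1 → (q * r) ^ 3 = 1 → ∃ y ∈ genW s5.gam (s5.ws 0), y * p = p * y ∧ (y * r * y⁻¹ * r) ^ 3 = 1 ∧ (∃ u ∈ genW s5.gam (s5.ws 0), u * p = q * u ∧ u * r = y * r * y⁻¹ * u ∧ True) ∧ (∀ e ∈ genW s5.gam (s5.ws 0), e * p = p * e → e ^ 3 = 1 → e = 1 ∨ e = y * r * y⁻¹ * r ∨ e⁻¹ = y * r * y⁻¹ * r) :=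
  s5_ok.holds (φ := .all 0 40 [] (.imp (.one (.mul (.l 40) (.l 40))) (.all 0 41 [(.l 40, .l 40)] (.imp (.one (.mul (.l 41) (.l 41))) (.imp (.not (.one (.mul (.l 40) (.l 41)))) (.all 0 42 [] (.imp (.one (.mul (.l 42) (.l 42))) (.imp (.one (.pow (.mul (.l 40) (.l 42)) 3)) (.imp (.one (.pow (.mul (.l 42) (.l 41)) 3)) (.ex 0 43 [(.l 40, .l 40)] (.and (.one (.pow (.mul (.mul (.mul (.l 43) (.l 41)) (.inv (.l 43))) (.l 41)) 3)) (.and (.ex 0 44 [(.l 40, .l 42), (.l 41, .mul (.mul (.l 43) (.l 41)) (.inv (.l 43)))] (.tt)) (.all 0 44 [(.l 40, .l 40)] (.imp (.one (.pow (.l 44) 3)) (.or (.one (.l 44)) (.or (.eq (.l 44) (.mul (.mul (.mul (.l 43) (.l 41)) (.inv (.l 43))) (.l 41))) (.eq (.inv (.l 44)) (.mul (.mul (.mul (.l 43) (.l 41)) (.inv (.l 43))) (.l 41))))))))))))))))))) (by decide +kernel)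

/-- inverse letters -/
def tcD_iv : ℕ := 9043225708576

/-- inverse letters -/
def tcD_labs : List W := [.l 0, .l 0, .l 0, .l 0, .l 4, .l 0, .l 0, .l 0, .l 8]

def tcD_F : Tr := .leaf (nat_lit 0x4445252324224341424021200000)
def tcD_T : Tr := .leaf (nat_lit 181896)
def tcD_P : Tr := .leaf (nat_lit 0xff800ff800ff800ff800ff800ff800ff800ff800ff800ff800ff800ff800ff800ff800ff800ff800ff800ff800ff800ff800ff800ff800ff800ff800ff800ff800ff800ff800ff800ff800ff8a0c0828900200)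
def tcD_N_0 : Tr := .node (.node (.node (.node (.leaf (nat_lit 272896260))
  (.leaf (nat_lit 198)))
  (.node (.leaf (nat_lit 99))
  (.leaf (nat_lit 8200))))
  (.node (.node (.leaf (nat_lit 66))
  (.leaf (nat_lit 231)))
  (.leaf (nat_lit 4100))))
  (.node (.node (.node (.leaf (nat_lit 33))
  (.leaf (nat_lit 6150)))
  (.node (.leaf (nat_lit 132))
  (.leaf (nat_lit 0))))
  (.node (.node (.leaf (nat_lit 2050))
  (.leaf (nat_lit 264)))
  (.leaf (nat_lit 165))))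
def tcD_N_1 : Tr := .node (.node (.node (.node (.leaf (nat_lit 33))
  (.leaf (nat_lit 198)))
  (.node (.leaf (nat_lit 3075))
  (.leaf (nat_lit 0))))
  (.node (.node (.leaf (nat_lit 66))
  (.leaf (nat_lit 7175)))
  (.leaf (nat_lit 165))))
  (.node (.node (.node (.leaf (nat_lit 1025))
  (.leaf (nat_lit 231)))
  (.leaf (nat_lit 132)))
  (.node (.node (.leaf (nat_lit 99))
  (.leaf (nat_lit 264)))
  (.leaf (nat_lit 5125))))
def tcD_N : Tr := .node tcD_N_0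
  tcD_N_1
noncomputable def tcD : TC :=
  ⟨[.l 0, .l 1, .l 2, .l 3, .l 4, .l 5, .l 6, .l 7, .l 8],
    (nat_lit 3), (nat_lit 7), (nat_lit 9043225708576), (nat_lit 1), (nat_lit 6), (nat_lit 0), (nat_lit 32), (nat_lit 1), (nat_lit 27),
    get (nat_lit 10) (nat_lit 0x400c0400c02010030080400c02010030080400c02010030080400c020100300806), Tr.get tcD_N, get (nat_lit 20) (nat_lit 0x3ff003ff003ff003ff003ff003ff003ff003ff003ff003ff003ff003ff003ff003ff003ff003ff003ff003ff003ff003ff003ff003ff003ff003ff003ff003ff00002),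
    Tr.get3 tcD_F (nat_lit 16) (nat_lit 5), Tr.get3 tcD_T (nat_lit 3) (nat_lit 8), Tr.get tcD_P⟩

theorem tcD_head : tcD.headOK relD tcD_iv = true := by decide +kernel

theorem tcD_b0 : allFrom (nat_lit 0) (nat_lit 1) tcD.blockOK = true := by decide +kernel

def tcD_Q8 : Tr := .leaf (nat_lit 13464932)
theorem tcD_f8_0 : allFrom (nat_lit 0) (nat_lit 6) (tcD.finOK (nat_lit 6) (Tr.get3 tcD_Q8 (nat_lit 4) (nat_lit 7)) (nat_lit 8)) = true := by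
  decide +kernel

def tcD_Q4 : Tr := .leaf (nat_lit 12167218)
theorem tcD_f4_0 : allFrom (nat_lit 0) (nat_lit 6) (tcD.finOK (nat_lit 6) (Tr.get3 tcD_Q4 (nat_lit 4) (nat_lit 7)) (nat_lit 4)) = true := by
  decide +kernel

theorem tcD_blocks : ∀ t < tcD.k, tcD.blockOK t = true :=
  (of_allFrom_append of_lt_zero tcD_b0)

/-- index 6 max 6 total 6 facts 7 | needed cosets 6 facts 7 steps 5 trivial 0 -/
theorem tcD_index {G : Type*} [Group G] {γ : ℕ → G} (hL : Lab γ tcD_iv) (hr : ∀ t ∈ relD, t.ev γ = 1) {K : Subgroup G}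
    (hK : ∀ t ∈ ([] : List W), t.ev γ ∈ K) :
    K.relIndex (genW γ [.l 4, .l 8]) ≠ 0 ∧ K.relIndex (genW γ [.l 4, .l 8]) ≤ 6 :=
  TC.relIndex_le (D := tcD) (gens := [4, 8]) hL (List.forall_mem_cons.2 ⟨hL.zero_mem K, hK⟩) hr tcD_head tcD_blocks (by decide) (by decide)
   (List.forall_mem_cons.2 ⟨⟨_, (of_allFrom_append of_lt_zero tcD_f4_0)⟩,
    List.forall_mem_cons.2 ⟨⟨_, (of_allFrom_append of_lt_zero tcD_f8_0)⟩,
    fun _ h => absurd h List.not_mem_nil⟩⟩)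

theorem tcD_idx {G : Type*} [Group G] {γ : ℕ → G} (h0 : γ 0 = 1) (hr : ∀ t ∈ relD, t.ev γ = 1) {K : Subgroup G}
    (hK : ∀ t ∈ ([] : List W), t.ev γ ∈ K) :
    K.relIndex (genW γ [.l 4, .l 8]) ≠ 0 ∧ K.relIndex (genW γ [.l 4, .l 8]) ≤ 6 := by
  have a := lab_of_rels h0 hr (iv := tcD_iv) (labs := tcD_labs) (by decide +kernel)
  have b := tcD_index a.1 a.2 (mems_fix (by decide +kernel) hK)
  rwa [genW_fix (by decide +kernel)] at b

theorem tcD_tb : TB relD [.l 4, .l 8] 6 := fun _ _ _ h0 hr =>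
  card_le_of_relIndex (N := 1) bot_le (tcD_idx h0 hr nil_all) card_bot_le

end Cfsg.Lib.IA
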