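import Cfsg.Agent.Lib.IA.SA
import Cfsg.Agent.Lib.Grp.Loc2

/-! The group `PSp₄(3)` on 40 points and the centraliser of a 2-central involution (generated data, helper8). -/

set_option autoImplicit false
set_option maxRecDepth 1000000
set_option maxHeartbeats 0

namespace Cfsg.Lib.IA

open Cfsg.Lib.Calc Cfsg.Lib.Grp Cfsg.Lib.T2 Cfsg.Lib.T3

/-- relators for `y` -/
def relY : List W := [.mul (.mul (.mul (.l 8) (.l 1)) (.inv (.l 8))) (.inv (.l 3)), .mul (.mul (.mul (.l 8) (.l 2)) (.inv (.l 8))) (.inv (.l 4)), .mul (.mul (.mul (.l 8) (.l 3)) (.inv (.l 8))) (.inv (.mul (.mul (.l 1) (.l 3)) (.l 5))), .mul (.mul (.mul (.l 8) (.l 4)) (.inv (.l 8))) (.inv (.mul (.mul (.l 2) (.l 4)) (.l 5))), .mul (.mul (.mul (.l 8) (.l 5)) (.inv (.l 8))) (.inv (.l 5)), .pow (.l 8) 3, .mul (.mul (.mul (.l 8) (.l 6)) (.inv (.l 8))) (.inv (.l 6)), .mul (.mul (.mul (.l 8) (.l 7)) (.inv (.l 8))) (.inv (.l 7))]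

/-- relators of the centraliser -/
def relH4 : List W := relHA ++ relY

def u4_L0 : List (ℕ × List ℕ) := [((nat_lit 0), [(nat_lit 0x9e69648e28607de75c6da6585d65544d24503ce34c2ca2481c61440c2040), (nat_lit 0x19f92509b5d19884cd89228c84e0cb75a80705671851911e4270095633c5), (nat_lit 0x8080d55cb0a779f2815074ce8cc91b6501923583d689d166691240961704), (nat_lit 0x9b4d129282158c5cd98e0c775f18896290b05a71e4230146151056673c9), (nat_lit 0x5a69258d95d87c82c929a8a086755351230714611175b71e40e3cd0c2001), (nat_lit 0x39f96408a84c99e5046526d15c60dd2da6100272604e23481d605c56314f), (nat_lit 0x21f5a708f5db5499508a614a85e0c435a80b0543989191dc7530064a344c), (nat_lit 0x25f5130915cf4869dd89530585c0c741a8040647985992ce3650089a36ca), (nat_lit 0x61e0d585d09621f6c04d05068d194a88739212016764b3e668c70191724d), (nat_lit 0x8090d25c409371f14190b95e8ca58f65d22641845488d31569b1809e1387), (nat_lit 0x8060e65c70a539f3015849dc8c551164d2557586e489029268f2004e178b),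 (nat_lit 0x8a50c6d26179d18449860d02df39e91995d01a2481e305381534f89615c), (nat_lit 0x8f95b16682150a5d055e0cb35f2099e258405a39c7630246121cc653446), (nat_lit 0x919cf3158219055dd49c0c441f2464e250705a78e3630166262ca6656c8), (nat_lit 0x79f9d608584a55c9076663db5c80cd11a61d0131a09624092d404e4a3311), (nat_lit 0x71f4d408c84548e58b65544f5c90d01da60d0252209e274612405e9a329b), (nat_lit 0x7a63868c18620c49076df0195c85497124543cb58c94a40d4dd167682818), (nat_lit 0x99e32084d8d49050d22c825d09f9403c79e271b60e553681299111417196), (nat_lit 0x9029d67dc1ca6857a166325b4254800552e035119d2225cf60c10e0e6513), (nat_lit 0x5167c29c17661804cb49b12380c64570e8503c868744360d5e525588a91e), (nat_lit 0x4dd1d85cf8665440e720a15b09990070659f35e6909548012e224e463312), (nat_lit 0x88381898f28c5443a74d21516d968005f1e571e2d019458d90825d0a35e1), (nat_lit 0x1262dd8e08416a71936c36005cd5501d24493e520c38a51672415e7c2899), (nat_lit 0x15e6d98468cd41180a2e458908195a4879c07157ce3138983c312621751d),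 (nat_lit 0x162259e474189509748678480d6582ce8453d13077c341a7132546ca9a3), (nat_lit 0xb64885208f31a41f4d54455cd95660e1c970352781e7460641226e32a6), (nat_lit 0x1a66248a44f9a44062156c53017e060358935d5271de3a570b1130a3857), (nat_lit 0x61c0d284d09425f3c095d9088db9c588b7a61e031364445568a381597190), (nat_lit 0x9c59508c085905e25c5620df5dd30d4ca98848e19b2cf5a41d444480261a), (nat_lit 0x5849118405e205d14d95f0d98db1cf50b4ca9d031e21c4951a63896026a0), (nat_lit 0x46755f8508e45a660f38918d0802e029c1034cc8a56c765a481785757214), (nat_lit 0x9d19488da84361e59c3008015c96c64cf16428e5152d27501cd9846427e2), (nat_lit 0x58e90a8605c369d48d1c06018c578c51c1152d09a52276d118f4c988265f), (nat_lit 0x1dd69229698e2c385c80060d8c57975011159103064e74427cf88921b665), (nat_lit 0x5a47c246048b95a6cd1c94018c564a79c0151a785d2185e60cf4c488c50e), (nat_lit 0x8c192201f4572d98470c855472678419b3893d258d4c216531a41829d827), (nat_lit 0x9c14e611b86022374b18c6507165000927c53ce68d5ca2511e261e0e5915),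 (nat_lit 0x48f2e114258c6574585547ce71a4c04081c93439411a311d9e681b7a22a4), (nat_lit 0x3185dd1dc42368049691b24a7e22043ce9c20655617912cd8191465264c3), (nat_lit 0x22459028f6d254069889114c99418935d8030597e739e1dc95310b5e3842)]),
  ((nat_lit 1), [(nat_lit 0x9e69648e28607de75c6da6585d65544d24503ce34c2ca2481c61440c2040), (nat_lit 0x1577d284c1d55113d008689a9e010991379d7010cb62359920a96634e6c0), (nat_lit 0x5c41532998d695140f05820b98981f4a479c7420e230650785a9d535b380), (nat_lit 0x9675131cb20425e71d38a3061559964a444f41b3586a18226637d70c1080), (nat_lit 0x3177e684a2d291b45d08889a4e01c65a570d3810c46235192459d541e3c0), (nat_lit 0x2977d584512658f6cd08989a9602c85273907810c762391918c4d275c440), (nat_lit 0x5c73251598d49db75105824454681f99670e3420e228890b85a4d240f780), (nat_lit 0x5cb2a73198e44cf35b05818748881f55439e4020e214958485a966751700), (nat_lit 0x8a69448c63244c17906c765849685a2453c308e3552ca7c85275e0711740), (nat_lit 0x9d88c52e285291c0c26da2884d955410905174e34c9568261c67d73de400),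 (nat_lit 0x8959c78c829694171d3cb65899485a18c44309e4121057c99135e039b340), (nat_lit 0x3041488598e07db40f71889a5c91c628b78d3917539a55164a49d50420c0)]),
  ((nat_lit 2), [(nat_lit 0x9e69648e28607de75c6da6585d65544d24503ce34c2ca2481c61440c2040), (nat_lit 0x7d88e192756658e40f4544939595e06a279b35d70a18710c2c8245083040)]),
  ((nat_lit 4), [(nat_lit 0x9e69648e28607de75c6da6585d65544d24503ce34c2ca2481c61440c2040), (nat_lit 0x4d59d68e28607dc34e3da6585d44a49666dd45e40a1051892c83070c2040), (nat_lit 0x9e69647d866169139b4238178965544d235c74f78418728c2452c80c2040), (nat_lit 0x59391585f5d865d6cd7a089a8d29665273917103c720b14a18c1090c2040), (nat_lit 0x9524d48e28607ce41e45a6585e49969d53cd6dc7451cc20610928b0c2040), (nat_lit 0x9e69646978198cd3d071f8626165544d279b39d4481491c428b18c0c2040), (nat_lit 0x4945655d98da89b78f7587e086791399640e35170628810b3072450c2040), (nat_lit 0x52559285f5d864d3d072089a8e69d591379b39d44b24430520a1c60c2040), (nat_lit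 0x4d59d66978198d045d39f8626144a496670f78d6c93062c714420a0c2040)]),
  ((nat_lit 13), [(nat_lit 0x9e69648e28607de75c6da6585d65544d24503ce34c2ca2481c61440c2040), (nat_lit 0x92752682362285b78f7595df6954d25a540e35170c2ca2481c61440c2040), (nat_lit 0x9a44a78a07e361d6cd7976a16535a55543917103cc2ca2481c61440c2040)])]

def u4_D0 : List ℕ := [(nat_lit 0), (nat_lit 513), (nat_lit 1025), (nat_lit 2049), (nat_lit 3585), (nat_lit 172546), (nat_lit 184834), (nat_lit 196354), (nat_lit 224770), (nat_lit 238082), (nat_lit 250626), (nat_lit 283138), (nat_lit 297474), (nat_lit 311042), (nat_lit 373250), (nat_lit 388866), (nat_lit 426498), (nat_lit 443394), (nat_lit 460290), (nat_lit 477186), (nat_lit 494594), (nat_lit 512002), (nat_lit 557570), (nat_lit 575490), (nat_lit 593922), (nat_lit 612610), (nat_lit 631042), (nat_lit 686594), (nat_lit 740354), (nat_lit 761858), (nat_lit 819714), (nat_lit 840706), (nat_lit 863234), (nat_lit 884738),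 (nat_lit 905474), (nat_lit 1014274), (nat_lit 1038338), (nat_lit 1063170), (nat_lit 1476098), (nat_lit 1509378), (nat_lit 0), (nat_lit 122956547), (nat_lit 227514115), (nat_lit 31232580356), (nat_lit 2824706), (nat_lit 2877186), (nat_lit 2986498), (nat_lit 3040002), (nat_lit 43438637828), (nat_lit 48114719492), (nat_lit 3568130), (nat_lit 55958645508), (nat_lit 0), (nat_lit 480192771), (nat_lit 0), (nat_lit 4609), (nat_lit 562669315), (nat_lit 78154352900), (nat_lit 4865), (nat_lit 614987011), (nat_lit 81585455876), (nat_lit 13624179915013), (nat_lit 100043140868), (nat_lit 0), (nat_lit 796970243), (nat_lit 761086211)]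

def u4_L1 : List (ℕ × List ℕ) := [((nat_lit 0), [(nat_lit 0x9e69648e28607de75c6da6585d65544d24503ce34c2ca2481c61440c2040), (nat_lit 0x19f92509b5d19884cd89228c84e0cb75a80705671851911e4270095633c5), (nat_lit 0x8080d55cb0a779f2815074ce8cc91b6501923583d689d166691240961704), (nat_lit 0x9b4d129282158c5cd98e0c775f18896290b05a71e4230146151056673c9), (nat_lit 0x5a69258d95d87c82c929a8a086755351230714611175b71e40e3cd0c2001), (nat_lit 0x39f96408a84c99e5046526d15c60dd2da6100272604e23481d605c56314f), (nat_lit 0x61e0d585d09621f6c04d05068d194a88739212016764b3e668c70191724d), (nat_lit 0x8a50c6d26179d18449860d02df39e91995d01a2481e305381534f89615c)]),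
  ((nat_lit 1), [(nat_lit 0x9e69648e28607de75c6da6585d65544d24503ce34c2ca2481c61440c2040), (nat_lit 0x1e26952a599864345c79620b8e118c5277420503e04e41527d710939b340), (nat_lit 0x4a188a5e658c1db45c0a57e019a9132c874e3430546231199d52457903c0), (nat_lit 0x3196242155207c340f6e72ca5e31c64d278204e35a9a52568a114445d700)]),
  ((nat_lit 2), [(nat_lit 0x9e69648e28607de75c6da6585d65544d24503ce34c2ca2481c61440c2040), (nat_lit 0x5d961a4d551694e40f4679129a381f8a179b35d70b30624720a144083040)]),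
  ((nat_lit 4), [(nat_lit 0x9e69648e28607de75c6da6585d65544d24503ce34c2ca2481c61440c2040), (nat_lit 0x59391585f5d865d6cd7a089a8d29665273917103c720b14a18c1090c2040), (nat_lit 0x4945655d98da89b78f7587e086791399640e35170628810b3072450c2040)]),
  ((nat_lit 13), [(nat_lit 0x9e69648e28607de75c6da6585d65544d24503ce34c2ca2481c61440c2040), (nat_lit 0x9a44a78a07e361d6cd7976a16535a55543917103cc2ca2481c61440c2040), (nat_lit 0x92752682362285b78f7595df6954d25a540e35170c2ca2481c61440c2040)])]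

def u4_D1 : List ℕ := [(nat_lit 0), (nat_lit 513), (nat_lit 1025), (nat_lit 2049), (nat_lit 3585), (nat_lit 146946), (nat_lit 172546), (nat_lit 200194), (nat_lit 0), (nat_lit 153858), (nat_lit 237826), (nat_lit 14884611), (nat_lit 0), (nat_lit 796104452), (nat_lit 0), (nat_lit 273410), (nat_lit 172290), (nat_lit 0), (nat_lit 97246209797), (nat_lit 96273433861)]

def u4_L2 : List (ℕ × List ℕ) := [((nat_lit 0), [(nat_lit 0x9e69648e28607de75c6da6585d65544d24503ce34c2ca2481c61440c2040), (nat_lit 0x19f92509b5d19884cd89228c84e0cb75a80705671851911e4270095633c5), (nat_lit 0x8080d55cb0a779f2815074ce8cc91b6501923583d689d166691240961704), (nat_lit 0x9b4d129282158c5cd98e0c775f18896290b05a71e4230146151056673c9)]),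
  ((nat_lit 1), [(nat_lit 0x9e69648e28607de75c6da6585d65544d24503ce34c2ca2481c61440c2040), (nat_lit 0x2e449a1e07d69426cd45730699320a8a138305d7276582635541447903c0), (nat_lit 0x99960b89550719d40f0a76a13235a520a7917030645df2604d21446ce340), (nat_lit 0x5cb2a74c71a360e08178c91264881f5540db3503e66a12625a5144751700)]),
  ((nat_lit 2), [(nat_lit 0x9e69648e28607de75c6da6585d65544d24503ce34c2ca2481c61440c2040), (nat_lit 0x65a85755695349045c3a69d49228d881f75e3db34b30624720a144083040)])]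

def u4_D2 : List ℕ := [(nat_lit 0), (nat_lit 513), (nat_lit 1025), (nat_lit 2049), (nat_lit 0), (nat_lit 91650), (nat_lit 2694915), (nat_lit 102146820), (nat_lit 0), (nat_lit 5193219)]

def u4_L3 : List (ℕ × List ℕ) := [((nat_lit 2), [(nat_lit 0x9e69648e28607de75c6da6585d65544d24503ce34c2ca2481c61440c2040), (nat_lit 0x65a85755695349045c3a69d49228d881f75e3db34b30624720a144083040), (nat_lit 0x19f92509b5d19884cd89228c84e0cb75a80705671851911e4270095633c5), (nat_lit 0x5a378899940b0a560f29589d1e769130352170605381b1645ce24049f344), (nat_lit 0x2925e10ce91d68780d59f18b95b08c4664c80627146271107990098d53c5), (nat_lit 0x8954076a778c0e150f1a359121999d2c262570a0604ce15791b2407d2344), (nat_lit 0x38221e7ca1d48e43016436d34064a06152d73673dd4620258561056a6709), (nat_lit 0x6c31d04862185572c19c23a078a7d35233243593d175602196210599a709)]),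
  ((nat_lit 0), [(nat_lit 0x9e69648e28607de75c6da6585d65544d24503ce34c2ca2481c61440c2040), (nat_lit 0x5a69258d95d87c82c929a8a086755351230714611175b71e40e3cd0c2001)])]

def u4_D3 : List ℕ := [(nat_lit 0), (nat_lit 513), (nat_lit 1025), (nat_lit 1537), (nat_lit 56322), (nat_lit 62978), (nat_lit 80386), (nat_lit 112130), (nat_lit 0), (nat_lit 2049)]

def u4_L4 : List (ℕ × List ℕ) := [((nat_lit 0), [(nat_lit 0x9e69648e28607de75c6da6585d65544d24503ce34c2ca2481c61440c2040), (nat_lit 0x19f92509b5d19884cd89228c84e0cb75a80705671851911e4270095633c5), (nat_lit 0x8080d55cb0a779f2815074ce8cc91b6501923583d689d166691240961704), (nat_lit 0x9b4d129282158c5cd98e0c775f18896290b05a71e4230146151056673c9), (nat_lit 0x5a69258d95d87c82c929a8a086755351230714611175b71e40e3cd0c2001), (nat_lit 0x39f96408a84c99e5046526d15c60dd2da6100272604e23481d605c56314f), (nat_lit 0x61e0d585d09621f6c04d05068d194a88739212016764b3e668c70191724d), (nat_lit 0x8a50c6d26179d18449860d02df39e91995d01a2481e305381534f89615c)]),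
  ((nat_lit 1), [(nat_lit 0x9e69648e28607de75c6da6585d65544d24503ce34c2ca2481c61440c2040), (nat_lit 0x2e449a1e07d69426cd45730699320a8a138305d7276582635541447903c0), (nat_lit 0x99960b89550719d40f0a76a13235a520a7917030645df2604d21446ce340), (nat_lit 0x5cb2a74c71a360e08178c91264881f5540db3503e66a12625a5144751700)]),
  ((nat_lit 2), [(nat_lit 0x9e69648e28607de75c6da6585d65544d24503ce34c2ca2481c61440c2040), (nat_lit 0x65a85755695349045c3a69d49228d881f75e3db34b30624720a144083040)])]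

def u4_D4 : List ℕ := [(nat_lit 0), (nat_lit 513), (nat_lit 1025), (nat_lit 2049), (nat_lit 3073), (nat_lit 101378), (nat_lit 122882), (nat_lit 146434), (nat_lit 0), (nat_lit 148994), (nat_lit 5975299), (nat_lit 388901124), (nat_lit 0), (nat_lit 13293059)]

def u4_L5 : List (ℕ × List ℕ) := [((nat_lit 2), [(nat_lit 0x9e69648e28607de75c6da6585d65544d24503ce34c2ca2481c61440c2040), (nat_lit 0x65a85755695349045c3a69d49228d881f75e3db34b30624720a144083040), (nat_lit 0x19f92509b5d19884cd89228c84e0cb75a80705671851911e4270095633c5), (nat_lit 0x5a378899940b0a560f29589d1e769130352170605381b1645ce24049f344), (nat_lit 0x2925e10ce91d68780d59f18b95b08c4664c80627146271107990098d53c5), (nat_lit 0x8954076a778c0e150f1a359121999d2c262570a0604ce15791b2407d2344), (nat_lit 0x38221e7ca1d48e43016436d34064a06152d73673dd4620258561056a6709), (nat_lit 0x6c31d04862185572c19c23a078a7d35233243593d175602196210599a709)])]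

def u4_D5 : List ℕ := [(nat_lit 0), (nat_lit 513), (nat_lit 1025), (nat_lit 1537), (nat_lit 41986), (nat_lit 47618), (nat_lit 62978), (nat_lit 91650)]

def u4_L6 : List (ℕ × List ℕ) := [((nat_lit 0), [(nat_lit 0x9e69648e28607de75c6da6585d65544d24503ce34c2ca2481c61440c2040), (nat_lit 0x19f92509b5d19884cd89228c84e0cb75a80705671851911e4270095633c5), (nat_lit 0x8080d55cb0a779f2815074ce8cc91b6501923583d689d166691240961704), (nat_lit 0x9b4d129282158c5cd98e0c775f18896290b05a71e4230146151056673c9), (nat_lit 0x5a69258d95d87c82c929a8a086755351230714611175b71e40e3cd0c2001), (nat_lit 0x39f96408a84c99e5046526d15c60dd2da6100272604e23481d605c56314f), (nat_lit 0x61e0d585d09621f6c04d05068d194a88739212016764b3e668c70191724d), (nat_lit 0x8a50c6d26179d18449860d02df39e91995d01a2481e305381534f89615c)]),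
  ((nat_lit 1), [(nat_lit 0x9e69648e28607de75c6da6585d65544d24503ce34c2ca2481c61440c2040), (nat_lit 0x1e26952a599864345c79620b8e118c5277420503e04e41527d710939b340), (nat_lit 0x2e449a1e07d69426cd45730699320a8a138305d7276582635541447903c0), (nat_lit 0x5605c861290631e38d0938d91df52728b6d03c305689a161966109751700)]),
  ((nat_lit 2), [(nat_lit 0x9e69648e28607de75c6da6585d65544d24503ce34c2ca2481c61440c2040), (nat_lit 0x85f8189a44e755138d4129565176a26636dd71e3ca18710c2c8245083040)]),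
  ((nat_lit 4), [(nat_lit 0x9e69648e28607de75c6da6585d65544d24503ce34c2ca2481c61440c2040), (nat_lit 0x4d59d67d866169b78f7638178944a496640e35170720b14a18c1090c2040), (nat_lit 0x9524d46978198dd6cd79f8626249969d53917103c628810b3072450c2040)])]

def u4_D6 : List ℕ := [(nat_lit 0), (nat_lit 513), (nat_lit 1025), (nat_lit 2049), (nat_lit 3073), (nat_lit 122882), (nat_lit 146434), (nat_lit 172034), (nat_lit 0), (nat_lit 127746), (nat_lit 185858), (nat_lit 12764675), (nat_lit 0), (nat_lit 651440900), (nat_lit 0), (nat_lit 48996683525), (nat_lit 49554504453)]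

def u4_L7 : List (ℕ × List ℕ) := [((nat_lit 0), [(nat_lit 0x9e69648e28607de75c6da6585d65544d24503ce34c2ca2481c61440c2040), (nat_lit 0x19f92509b5d19884cd89228c84e0cb75a80705671851911e4270095633c5), (nat_lit 0x8080d55cb0a779f2815074ce8cc91b6501923583d689d166691240961704), (nat_lit 0x9b4d129282158c5cd98e0c775f18896290b05a71e4230146151056673c9)]),
  ((nat_lit 1), [(nat_lit 0x9e69648e28607de75c6da6585d65544d24503ce34c2ca2481c61440c2040), (nat_lit 0x1e26952a599864345c79620b8e118c5277420503e04e41527d710939b340), (nat_lit 0x4a188a5e658c1db45c0a57e019a9132c874e3430546231199d52457903c0), (nat_lit 0x3196242155207c340f6e72ca5e31c64d278204e35a9a52568a114445d700)]),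
  ((nat_lit 2), [(nat_lit 0x9e69648e28607de75c6da6585d65544d24503ce34c2ca2481c61440c2040), (nat_lit 0x5d961a4d551694e40f4679129a381f8a179b35d70b30624720a144083040)]),
  ((nat_lit 4), [(nat_lit 0x9e69648e28607de75c6da6585d65544d24503ce34c2ca2481c61440c2040), (nat_lit 0x59391585f5d865d6cd7a089a8d29665273917103c720b14a18c1090c2040), (nat_lit 0x4945655d98da89b78f7587e086791399640e35170628810b3072450c2040)]),
  ((nat_lit 13), [(nat_lit 0x9e69648e28607de75c6da6585d65544d24503ce34c2ca2481c61440c2040), (nat_lit 0x9a44a78a07e361d6cd7976a16535a55543917103cc2ca2481c61440c2040), (nat_lit 0x92752682362285b78f7595df6954d25a540e35170c2ca2481c61440c2040)])]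

def u4_D7 : List ℕ := [(nat_lit 0), (nat_lit 513), (nat_lit 1025), (nat_lit 2049), (nat_lit 0), (nat_lit 99074), (nat_lit 161538), (nat_lit 6095619), (nat_lit 0), (nat_lit 267638020), (nat_lit 0), (nat_lit 197634), (nat_lit 138498), (nat_lit 0), (nat_lit 33200467205), (nat_lit 32430041349)]

def u4_L8 : List (ℕ × List ℕ) := [((nat_lit 2), [(nat_lit 0x9e69648e28607de75c6da6585d65544d24503ce34c2ca2481c61440c2040), (nat_lit 0x65a85755695349045c3a69d49228d881f75e3db34b30624720a144083040), (nat_lit 0x19f92509b5d19884cd89228c84e0cb75a80705671851911e4270095633c5), (nat_lit 0x5a378899940b0a560f29589d1e769130352170605381b1645ce24049f344), (nat_lit 0x6123868d36c70d990d31f5102a055e2025e73cb06195112259d1406a6709), (nat_lit 0x4022dd8c83166941818437a74475598a62983e571b3970138241497d2344), (nat_lit 0x2925e10ce91d68780d59f18b95b08c4664c80627146271107990098d53c5), (nat_lit 0x51f6ca5603880a75cd2d261e1938d01c39193cc06585d11689114099a709)]),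
  ((nat_lit 0), [(nat_lit 0x9e69648e28607de75c6da6585d65544d24503ce34c2ca2481c61440c2040), (nat_lit 0x5a69258d95d87c82c929a8a086755351230714611175b71e40e3cd0c2001)]),
  ((nat_lit 4), [(nat_lit 0x9e69648e28607de75c6da6585d65544d24503ce34c2ca2481c61440c2040), (nat_lit 0x9524d46978198dd6cd79f8626249969d53917103c628810b3072450c2040), (nat_lit 0x4d59d67d866169b78f7638178944a496640e35170720b14a18c1090c2040)])]

def u4_D8 : List ℕ := [(nat_lit 0), (nat_lit 513), (nat_lit 1025), (nat_lit 1537), (nat_lit 2561), (nat_lit 2817), (nat_lit 87042), (nat_lit 95746), (nat_lit 0), (nat_lit 2049), (nat_lit 0), (nat_lit 4792579), (nat_lit 6704387)]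

def u4 : PM :=
  ⟨(nat_lit 40), (nat_lit 6), [(nat_lit 0x19f92509b5d19884cd89228c84e0cb75a80705671851911e4270095633c5), (nat_lit 0x8080d55cb0a779f2815074ce8cc91b6501923583d689d166691240961704), (nat_lit 0x5a378899940b0a560f29589d1e769130352170605381b1645ce24049f344), (nat_lit 0x9b4d129282158c5cd98e0c775f18896290b05a71e4230146151056673c9), (nat_lit 0x65a85755695349045c3a69d49228d881f75e3db34b30624720a144083040), (nat_lit 0x60a0e58c80967592c198651084755e8913273da7127db11380e140917349), (nat_lit 0x5a69258d95d87c82c929a8a086755351230714611175b71e40e3cd0c2001), (nat_lit 0x6123868d36c70d990d31f5102a055e2025e73cb06195112259d1406a6709), (nat_lit 0x4d59d68e28607dc34e3da6585d44a49666dd45e40a1051892c83070c2040)],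
    [[.l 1, .l 2, .l 3, .l 4, .l 5, .l 6, .l 7, .l 8, .l 9],
    [.l 1, .l 2, .l 3, .l 4, .l 5, .l 6, .l 7, .l 8],
    [.l 1, .l 2, .l 3, .l 4, .l 5],
    [.l 5, .l 1, .l 3, .l 7],
    [.l 1, .l 2, .l 3, .l 4, .l 5, .l 7],
    [.l 5, .l 1, .l 3],
    [.l 1, .l 2, .l 3, .l 4, .l 5, .l 7, .l 8],
    [.l 1, .l 2, .l 3, .l 4, .l 5, .l 6, .l 8],
    [.l 5, .l 1, .l 3, .l 7, .l 8]],
    [u4_L0, u4_L1, u4_L2, u4_L3, u4_L4, u4_L5, u4_L6, u4_L7, u4_L8], [u4_D0, u4_D1, u4_D2, u4_D3, u4_D4, u4_D5, u4_D6, u4_D7, u4_D8]⟩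

instance u4_ne : NeZero u4.n := ⟨by decide⟩

theorem u4_ok0 : u4.ok0 = true := by decide +kernel

theorem u4_k0 : allFrom (nat_lit 0) (nat_lit 1) u4.okK = true := by decide +kernel

theorem u4_k1 : allFrom (nat_lit 1) (nat_lit 1) u4.okK = true := by decide +kernel

theorem u4_k2 : allFrom (nat_lit 2) (nat_lit 1) u4.okK = true := by decide +kernel

theorem u4_k3 : allFrom (nat_lit 3) (nat_lit 1) u4.okK = true := by decide +kernel

theorem u4_k4 : allFrom (nat_lit 4) (nat_lit 1) u4.okK = true := by decide +kernel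

theorem u4_k5 : allFrom (nat_lit 5) (nat_lit 1) u4.okK = true := by decide +kernel

theorem u4_k6 : allFrom (nat_lit 6) (nat_lit 1) u4.okK = true := by decide +kernel

theorem u4_k7 : allFrom (nat_lit 7) (nat_lit 1) u4.okK = true := by decide +kernel

theorem u4_k8 : allFrom (nat_lit 8) (nat_lit 1) u4.okK = true := by decide +kernel

theorem u4_ok : u4.OK := PM.OK.of_check u4_ok0
  (of_allFrom_append (of_allFrom_append (of_allFrom_append (of_allFrom_append (of_allFrom_append (of_allFrom_append (of_allFrom_append (of_allFrom_append (of_allFrom_append of_lt_zero u4_k0) u4_k1) u4_k2) u4_k3) u4_k4) u4_k5) u4_k6) u4_k7) u4_k8)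

theorem u4_card0 : Nat.card (genW u4.gam (u4.ws 0)) = 25920 := (u4_ok.card 0).trans (by decide +kernel)

theorem u4_card1 : Nat.card (genW u4.gam (u4.ws 1)) = 576 := (u4_ok.card 1).trans (by decide +kernel)

theorem u4_card2 : Nat.card (genW u4.gam (u4.ws 2)) = 32 := (u4_ok.card 2).trans (by decide +kernel)

theorem u4_card3 : Nat.card (genW u4.gam (u4.ws 3)) = 16 := (u4_ok.card 3).trans (by decide +kernel)

theorem u4_card4 : Nat.card (genW u4.gam (u4.ws 4)) = 64 := (u4_ok.card 4).trans (by decide +kernel)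

theorem u4_card5 : Nat.card (genW u4.gam (u4.ws 5)) = 8 := (u4_ok.card 5).trans (by decide +kernel)

theorem u4_card6 : Nat.card (genW u4.gam (u4.ws 6)) = 192 := (u4_ok.card 6).trans (by decide +kernel)

theorem u4_card7 : Nat.card (genW u4.gam (u4.ws 7)) = 288 := (u4_ok.card 7).trans (by decide +kernel)

theorem u4_card8 : Nat.card (genW u4.gam (u4.ws 8)) = 48 := (u4_ok.card 8).trans (by decide +kernel)

/-- a formula -/
def u4_cls_f : Fm := .all 1 40 [] (.imp (.one (.mul (.l 40) (.l 40))) (.or (.one (.l 40)) (.or (.eq (.l 40) (.l 5)) (.or (.ex 1 41 [(.l 1, .l 40)] (.tt)) (.or (.ex 1 41 [(.l 7, .l 40)] (.tt)) (.ex 1 41 [(.mul (.l 7) (.l 5), .l 40)] (.tt)))))))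

theorem u4_cls_ev : u4.eval u4_cls_f = true := by decide +kernel

theorem u4_cls {G : Type*} [Group G] {γ : ℕ → G} {k : ℕ} {N : List W} (g : Gf u4 γ k N)
    (e : tyB u4 k N u4_cls_f = true := by decide +kernel) :
    ∀ e ∈ genW γ (u4.ws 1), e * e = 1 → e = 1 ∨ e = γ 5 ∨ (∃ k ∈ genW γ (u4.ws 1), k * γ 1 = e * k ∧ True) ∨ (∃ k ∈ genW γ (u4.ws 1), k * γ 7 = e * k ∧ True) ∨ (∃ k ∈ genW γ (u4.ws 1), k * (γ 7 * γ 5) = e * k ∧ True) :=
  g.transfer e u4_cls_ev

/-- a formula -/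
def u4_sq_f : Fm := .all 2 40 [] (.or (.one (.mul (.l 40) (.l 40))) (.eq (.mul (.l 40) (.l 40)) (.l 5)))

theorem u4_sq_ev : u4.eval u4_sq_f = true := by decide +kernel

theorem u4_sq {G : Type*} [Group G] {γ : ℕ → G} {k : ℕ} {N : List W} (g : Gf u4 γ k N)
    (e : tyB u4 k N u4_sq_f = true := by decide +kernel) :
    ∀ q ∈ genW γ (u4.ws 2), q * q = 1 ∨ q * q = γ 5 :=
  g.transfer e u4_sq_ev

/-- a formula -/
def u4_cen_f : Fm := .all 1 40 [(.l 1, .l 1), (.l 2, .l 2), (.l 3, .l 3), (.l 4, .l 4)] (.or (.one (.l 40)) (.eq (.l 40) (.l 5)))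

theorem u4_cen_ev : u4.eval u4_cen_f = true := by decide +kernel

theorem u4_cen {G : Type*} [Group G] {γ : ℕ → G} {k : ℕ} {N : List W} (g : Gf u4 γ k N)
    (e : tyB u4 k N u4_cen_f = true := by decide +kernel) :
    ∀ e ∈ genW γ (u4.ws 1), e * γ 1 = γ 1 * e → e * γ 2 = γ 2 * e → e * γ 3 = γ 3 * e → e * γ 4 = γ 4 * e → e = 1 ∨ e = γ 5 :=
  g.transfer e u4_cen_ev

/-- a formula -/
def u4_cz_f : Fm := .all 0 40 [(.l 5, .l 5)] (.mem 1 (.l 40))

theorem u4_cz_ev : u4.eval u4_cz_f = true := by decide +kernel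

theorem u4_cz {G : Type*} [Group G] {γ : ℕ → G} {k : ℕ} {N : List W} (g : Gf u4 γ k N)
    (e : tyB u4 k N u4_cz_f = true := by decide +kernel) :
    ∀ e ∈ genW γ (u4.ws 0), e * γ 5 = γ 5 * e → e ∈ genW γ (u4.ws 1) :=
  g.transfer e u4_cz_ev

/-- a formula -/
def u4_16_f : Fm := .all 4 40 [] (.imp (.one (.mul (.l 40) (.l 40))) (.imp (.not (.mem 3 (.l 40))) (.all 4 41 [(.l 40, .l 40)] (.imp (.one (.mul (.l 41) (.l 41))) (.imp (.not (.one (.l 41))) (.imp (.not (.eq (.l 41) (.l 40))) (.imp (.not (.eq (.l 41) (.l 5))) (.imp (.not (.eq (.l 41) (.mul (.l 40) (.l 5)))) (.all 4 42 [(.l 40, .l 40), (.l 41, .l 41)] (.imp (.one (.mul (.l 42) (.l 42))) (.imp (.not (.one (.l 42))) (.imp (.not (.eq (.l 42) (.l 40))) (.imp (.not (.eq (.l 42) (.l 5))) (.imp (.not (.eq (.l 42) (.mul (.l 40) (.l 5)))) (.imp (.not (.eq (.l 42) (.l 41))) (.imp (.not (.eq (.l 42) (.mul (.l 40) (.l 41)))) (.imp (.not (.eq (.l 42) (.mul (.l 5) (.l 41))))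 (.imp (.not (.eq (.l 42) (.mul (.mul (.l 40) (.l 5)) (.l 41)))) (.not (.tt))))))))))))))))))))

theorem u4_16_ev : u4.eval u4_16_f = true := by decide +kernel

theorem u4_16 {G : Type*} [Group G] {γ : ℕ → G} {k : ℕ} {N : List W} (g : Gf u4 γ k N)
    (e : tyB u4 k N u4_16_f = true := by decide +kernel) :
    ∀ p ∈ genW γ (u4.ws 4), p * p = 1 → p ∉ genW γ (u4.ws 3) → ∀ r ∈ genW γ (u4.ws 4), r * p = p * r → r * r = 1 → r ≠ 1 → r ≠ p → r ≠ γ 5 → r ≠ p * γ 5 → ∀ s ∈ genW γ (u4.ws 4), s * p = p * s → s * r = r * s → s * s = 1 → s ≠ 1 → s ≠ p → s ≠ γ 5 → s ≠ p * γ 5 → s ≠ r → s ≠ p * r → s ≠ γ 5 * r → s ≠ p * γ 5 * r → ¬ True :=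
  g.transfer e u4_16_ev

/-- a formula -/
def u4_bas_f : Fm := .all 3 40 [] (.imp (.not (.one (.l 40))) (.all 3 41 [] (.imp (.not (.one (.l 41))) (.imp (.not (.eq (.l 40) (.l 41))) (.ex 3 42 [] (.and (.not (.one (.l 42))) (.and (.not (.eq (.l 42) (.l 40))) (.and (.not (.eq (.l 42) (.l 41))) (.and (.not (.eq (.l 42) (.mul (.l 40) (.l 41)))) (.ex 3 43 [] (.and (.not (.one (.l 43))) (.and (.not (.eq (.l 43) (.l 40))) (.and (.not (.eq (.l 43) (.l 41))) (.and (.not (.eq (.l 43) (.mul (.l 40) (.l 41)))) (.and (.not (.eq (.l 43) (.l 42))) (.and (.not (.eq (.l 43) (.mul (.l 40) (.l 42)))) (.and (.not (.eq (.l 43) (.mul (.l 41) (.l 42)))) (.not (.eq (.l 43) (.mul (.mul (.l 40) (.l 41)) (.l 42)))))))))))))))))))))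

theorem u4_bas_ev : u4.eval u4_bas_f = true := by decide +kernel

theorem u4_bas {G : Type*} [Group G] {γ : ℕ → G} {k : ℕ} {N : List W} (g : Gf u4 γ k N)
    (e : tyB u4 k N u4_bas_f = true := by decide +kernel) :
    ∀ p ∈ genW γ (u4.ws 3), p ≠ 1 → ∀ u ∈ genW γ (u4.ws 3), u ≠ 1 → p ≠ u → ∃ r ∈ genW γ (u4.ws 3), r ≠ 1 ∧ r ≠ p ∧ r ≠ u ∧ r ≠ p * u ∧ (∃ s ∈ genW γ (u4.ws 3), s ≠ 1 ∧ s ≠ p ∧ s ≠ u ∧ s ≠ p * u ∧ s ≠ r ∧ s ≠ p * r ∧ s ≠ u * r ∧ s ≠ p * u * r) :=
  g.transfer e u4_bas_ev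

/-- a formula -/
def u4_Ac_f : Fm := .all 3 40 [] (.and (.one (.mul (.l 40) (.l 40))) (.all 3 41 [] (.eq (.mul (.l 40) (.l 41)) (.mul (.l 41) (.l 40)))))

theorem u4_Ac_ev : u4.eval u4_Ac_f = true := by decide +kernel

theorem u4_Ac {G : Type*} [Group G] {γ : ℕ → G} {k : ℕ} {N : List W} (g : Gf u4 γ k N)
    (e : tyB u4 k N u4_Ac_f = true := by decide +kernel) :
    ∀ p ∈ genW γ (u4.ws 3), p * p = 1 ∧ (∀ q ∈ genW γ (u4.ws 3), p * q = q * p) :=
  g.transfer e u4_Ac_ev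

/-- a formula -/
def u4_KE_f : Fm := .all 3 40 [] (.imp (.mem 7 (.l 40)) (.mem 5 (.l 40)))

theorem u4_KE_ev : u4.eval u4_KE_f = true := by decide +kernel

theorem u4_KE {G : Type*} [Group G] {γ : ℕ → G} {k : ℕ} {N : List W} (g : Gf u4 γ k N)
    (e : tyB u4 k N u4_KE_f = true := by decide +kernel) :
    ∀ t ∈ genW γ (u4.ws 3), t ∈ genW γ (u4.ws 7) → t ∈ genW γ (u4.ws 5) :=
  g.transfer e u4_KE_ev

/-- a formula -/
def u4_GE_f : Fm := .all 5 40 [] (.or (.one (.l 40)) (.or (.eq (.l 40) (.l 5)) (.ex 6 41 [(.l 1, .l 40)] (.tt))))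

theorem u4_GE_ev : u4.eval u4_GE_f = true := by decide +kernel

theorem u4_GE {G : Type*} [Group G] {γ : ℕ → G} {k : ℕ} {N : List W} (g : Gf u4 γ k N)
    (e : tyB u4 k N u4_GE_f = true := by decide +kernel) :
    ∀ t ∈ genW γ (u4.ws 5), t = 1 ∨ t = γ 5 ∨ (∃ k ∈ genW γ (u4.ws 6), k * γ 1 = t * k ∧ True) :=
  g.transfer e u4_GE_ev

/-- a formula -/
def u4_GA_f : Fm := .all 3 40 [] (.or (.mem 5 (.l 40)) (.or (.ex 6 41 [(.l 7, .l 40)] (.tt)) (.ex 6 41 [(.mul (.l 7) (.l 5), .l 40)] (.tt))))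

theorem u4_GA_ev : u4.eval u4_GA_f = true := by decide +kernel

theorem u4_GA {G : Type*} [Group G] {γ : ℕ → G} {k : ℕ} {N : List W} (g : Gf u4 γ k N)
    (e : tyB u4 k N u4_GA_f = true := by decide +kernel) :
    ∀ t ∈ genW γ (u4.ws 3), t ∈ genW γ (u4.ws 5) ∨ (∃ k ∈ genW γ (u4.ws 6), k * γ 7 = t * k ∧ True) ∨ (∃ k ∈ genW γ (u4.ws 6), k * (γ 7 * γ 5) = t * k ∧ True) :=
  g.transfer e u4_GA_ev

/-- a formula -/
def u4_GR_f : Fm := .all 1 40 [(.l 1, .l 1)] (.and (.one (.pow (.l 40) 4)) (.all 5 41 [] (.not (.eq (.mul (.mul (.l 40) (.l 41)) (.inv (.l 40))) (.mul (.l 41) (.l 1))))))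

theorem u4_GR_ev : u4.eval u4_GR_f = true := by decide +kernel

theorem u4_GR {G : Type*} [Group G] {γ : ℕ → G} {k : ℕ} {N : List W} (g : Gf u4 γ k N)
    (e : tyB u4 k N u4_GR_f = true := by decide +kernel) :
    ∀ e ∈ genW γ (u4.ws 1), e * γ 1 = γ 1 * e → e ^ 4 = 1 ∧ (∀ t ∈ genW γ (u4.ws 5), e * t * e⁻¹ ≠ t * γ 1) :=
  g.transfer e u4_GR_ev

/-- a formula -/
def u4_G2_f : Fm := .all 3 40 [] (.imp (.not (.mem 5 (.l 40))) (.all 1 41 [(.l 40, .mul (.l 40) (.l 5))] (.not (.tt))))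

theorem u4_G2_ev : u4.eval u4_G2_f = true := by decide +kernel

theorem u4_G2 {G : Type*} [Group G] {γ : ℕ → G} {k : ℕ} {N : List W} (g : Gf u4 γ k N)
    (e : tyB u4 k N u4_G2_f = true := by decide +kernel) :
    ∀ t ∈ genW γ (u4.ws 3), t ∉ genW γ (u4.ws 5) → ∀ h ∈ genW γ (u4.ws 1), h * t = t * γ 5 * h → ¬ True :=
  g.transfer e u4_G2_ev

/-- a formula -/
def u4_DA_f : Fm := .all 3 40 [] (.or (.one (.l 40)) (.or (.or (.eq (.l 40) (.l 5)) (.or (.eq (.l 40) (.l 7)) (.or (.eq (.l 40) (.mul (.l 7) (.l 1))) (.or (.eq (.l 40) (.mul (.l 7) (.l 3))) (.eq (.l 40) (.mul (.mul (.mul (.l 7) (.l 1)) (.l 3)) (.l 5))))))) (.or (.ex 1 41 [(.l 1, .l 40)] (.tt)) (.ex 1 41 [(.mul (.l 7) (.l 5), .l 40)] (.tt)))))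

theorem u4_DA_ev : u4.eval u4_DA_f = true := by decide +kernel

theorem u4_DA {G : Type*} [Group G] {γ : ℕ → G} {k : ℕ} {N : List W} (g : Gf u4 γ k N)
    (e : tyB u4 k N u4_DA_f = true := by decide +kernel) :
    ∀ t ∈ genW γ (u4.ws 3), t = 1 ∨ (t = γ 5 ∨ t = γ 7 ∨ t = γ 7 * γ 1 ∨ t = γ 7 * γ 3 ∨ t = γ 7 * γ 1 * γ 3 * γ 5) ∨ (∃ k ∈ genW γ (u4.ws 1), k * γ 1 = t * k ∧ True) ∨ (∃ k ∈ genW γ (u4.ws 1), k * (γ 7 * γ 5) = t * k ∧ True) :=
  g.transfer e u4_DA_ev

/-- a formula -/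
def u4_CE_f : Fm := .all 3 40 [] (.imp (.or (.eq (.l 40) (.l 5)) (.or (.eq (.l 40) (.l 7)) (.or (.eq (.l 40) (.mul (.l 7) (.l 1))) (.or (.eq (.l 40) (.mul (.l 7) (.l 3))) (.eq (.l 40) (.mul (.mul (.mul (.l 7) (.l 1)) (.l 3)) (.l 5))))))) (.imp (.not (.eq (.l 40) (.l 5))) (.all 1 41 [(.l 40, .l 40)] (.imp (.one (.mul (.l 41) (.l 41))) (.mem 3 (.l 41))))))

theorem u4_CE_ev : u4.eval u4_CE_f = true := by decide +kernel

theorem u4_CE {G : Type*} [Group G] {γ : ℕ → G} {k : ℕ} {N : List W} (g : Gf u4 γ k N)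
    (e : tyB u4 k N u4_CE_f = true := by decide +kernel) :
    ∀ e ∈ genW γ (u4.ws 3), e = γ 5 ∨ e = γ 7 ∨ e = γ 7 * γ 1 ∨ e = γ 7 * γ 3 ∨ e = γ 7 * γ 1 * γ 3 * γ 5 → e ≠ γ 5 → ∀ t ∈ genW γ (u4.ws 1), t * e = e * t → t * t = 1 → t ∈ genW γ (u4.ws 3) :=
  g.transfer e u4_CE_ev

/-- a formula -/
def u4_T0_f : Fm := .all 1 40 [] (.imp (.one (.mul (.l 40) (.l 40))) (.imp (.mem 3 (.mul (.mul (.l 40) (.l 7)) (.inv (.l 40)))) (.or (.mem 3 (.l 40)) (.ex 1 41 [(.l 1, .l 40)] (.tt)))))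

theorem u4_T0_ev : u4.eval u4_T0_f = true := by decide +kernel

theorem u4_T0 {G : Type*} [Group G] {γ : ℕ → G} {k : ℕ} {N : List W} (g : Gf u4 γ k N)
    (e : tyB u4 k N u4_T0_f = true := by decide +kernel) :
    ∀ t ∈ genW γ (u4.ws 1), t * t = 1 → t * γ 7 * t⁻¹ ∈ genW γ (u4.ws 3) → t ∈ genW γ (u4.ws 3) ∨ (∃ k ∈ genW γ (u4.ws 1), k * γ 1 = t * k ∧ True) :=
  g.transfer e u4_T0_ev

/-- a formula -/
def u4_U0_f : Fm := .all 3 40 [] (.or (.one (.l 40)) (.or (.or (.eq (.l 40) (.l 5)) (.or (.eq (.l 40) (.l 7)) (.or (.eq (.l 40) (.mul (.l 7) (.l 1))) (.or (.eq (.l 40) (.mul (.l 7) (.l 3))) (.eq (.l 40) (.mul (.mul (.mul (.l 7) (.l 1)) (.l 3)) (.l 5))))))) (.or (.not (.or (.eq (.mul (.l 40) (.l 5)) (.l 5)) (.or (.eq (.mul (.l 40) (.l 5)) (.l 7)) (.or (.eq (.mul (.l 40) (.l 5)) (.mul (.l 7) (.l 1))) (.or (.eq (.mul (.l 40) (.l 5)) (.mul (.l 7) (.l 3))) (.eq (.mul (.l 40) (.l 5)) (.mul (.mul (.mul (.l 7) (.l 1)) (.l 3)) (.l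 5)))))))) (.or (.not (.or (.eq (.mul (.l 40) (.l 7)) (.l 5)) (.or (.eq (.mul (.l 40) (.l 7)) (.l 7)) (.or (.eq (.mul (.l 40) (.l 7)) (.mul (.l 7) (.l 1))) (.or (.eq (.mul (.l 40) (.l 7)) (.mul (.l 7) (.l 3))) (.eq (.mul (.l 40) (.l 7)) (.mul (.mul (.mul (.l 7) (.l 1)) (.l 3)) (.l 5)))))))) (.not (.or (.eq (.mul (.l 40) (.mul (.l 7) (.l 1))) (.l 5)) (.or (.eq (.mul (.l 40) (.mul (.l 7) (.l 1))) (.l 7)) (.or (.eq (.mul (.l 40) (.mul (.l 7) (.l 1))) (.mul (.l 7) (.l 1))) (.or (.eq (.mul (.l 40) (.mul (.l 7) (.l 1))) (.mul (.l 7) (.l 3))) (.eq (.mul (.l 40) (.mul (.l 7) (.l 1))) (.mul (.mul (.mul (.l 7) (.l 1)) (.l 3)) (.l 5))))))))))))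

theorem u4_U0_ev : u4.eval u4_U0_f = true := by decide +kernel

theorem u4_U0 {G : Type*} [Group G] {γ : ℕ → G} {k : ℕ} {N : List W} (g : Gf u4 γ k N)
    (e : tyB u4 k N u4_U0_f = true := by decide +kernel) :
    ∀ t ∈ genW γ (u4.ws 3), t = 1 ∨ (t = γ 5 ∨ t = γ 7 ∨ t = γ 7 * γ 1 ∨ t = γ 7 * γ 3 ∨ t = γ 7 * γ 1 * γ 3 * γ 5) ∨ ¬ (t * γ 5 = γ 5 ∨ t * γ 5 = γ 7 ∨ t * γ 5 = γ 7 * γ 1 ∨ t * γ 5 = γ 7 * γ 3 ∨ t * γ 5 = γ 7 * γ 1 * γ 3 * γ 5) ∨ ¬ (t * γ 7 = γ 5 ∨ t * γ 7 = γ 7 ∨ t * γ 7 = γ 7 * γ 1 ∨ t * γ 7 = γ 7 * γ 3 ∨ t * γ 7 = γ 7 * γ 1 * γ 3 * γ 5) ∨ ¬ (t * (γ 7 * γ 1) = γ 5 ∨ t * (γ 7 * γ 1) = γ 7 ∨ t * (γ 7 * γ 1) = γ 7 * γ 1 ∨ t * (γ 7 * γ 1) = γ 7 * γ 3 ∨ t * (γ 7 * γ 1) = γ 7 * γ 1 * γ 3 * γ 5) :=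
  g.transfer e u4_U0_ev

/-- a formula -/
def u4_NE_f : Fm := .all 3 40 [] (.imp (.or (.eq (.l 40) (.l 5)) (.or (.eq (.l 40) (.mul (.l 7) (.l 3))) (.eq (.l 40) (.mul (.mul (.mul (.l 7) (.l 1)) (.l 3)) (.l 5))))) (.and (.not (.or (.eq (.mul (.l 1) (.l 40)) (.l 5)) (.or (.eq (.mul (.l 1) (.l 40)) (.l 7)) (.or (.eq (.mul (.l 1) (.l 40)) (.mul (.l 7) (.l 1))) (.or (.eq (.mul (.l 1) (.l 40)) (.mul (.l 7) (.l 3))) (.eq (.mul (.l 1) (.l 40)) (.mul (.mul (.mul (.l 7) (.l 1)) (.l 3)) (.l 5)))))))) (.not (.one (.mul (.l 1) (.l 40))))))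

theorem u4_NE_ev : u4.eval u4_NE_f = true := by decide +kernel

theorem u4_NE {G : Type*} [Group G] {γ : ℕ → G} {k : ℕ} {N : List W} (g : Gf u4 γ k N)
    (e : tyB u4 k N u4_NE_f = true := by decide +kernel) :
    ∀ e ∈ genW γ (u4.ws 3), e = γ 5 ∨ e = γ 7 * γ 3 ∨ e = γ 7 * γ 1 * γ 3 * γ 5 → ¬ (γ 1 * e = γ 5 ∨ γ 1 * e = γ 7 ∨ γ 1 * e = γ 7 * γ 1 ∨ γ 1 * e = γ 7 * γ 3 ∨ γ 1 * e = γ 7 * γ 1 * γ 3 * γ 5) ∧ γ 1 * e ≠ 1 :=
  g.transfer e u4_NE_ev

/-- a formula -/
def u4_P3_f : Fm := .all 1 40 [] (.or (.one (.pow (.mul (.mul (.mul (.l 40) (.l 7)) (.inv (.l 40))) (.l 7)) 2)) (.one (.pow (.mul (.mul (.mul (.l 40) (.l 7)) (.inv (.l 40))) (.l 7)) 3)))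

theorem u4_P3_ev : u4.eval u4_P3_f = true := by decide +kernel

theorem u4_P3 {G : Type*} [Group G] {γ : ℕ → G} {k : ℕ} {N : List W} (g : Gf u4 γ k N)
    (e : tyB u4 k N u4_P3_f = true := by decide +kernel) :
    ∀ k ∈ genW γ (u4.ws 1), (k * γ 7 * k⁻¹ * γ 7) ^ 2 = 1 ∨ (k * γ 7 * k⁻¹ * γ 7) ^ 3 = 1 :=
  g.transfer e u4_P3_ev

/-- inverse letters -/
def tcY_iv : ℕ := 9229550957463584

/-- inverse letters -/
def tcY_labs : List W := [.l 0, .l 1, .l 2, .l 3, .l 4, .l 5, .l 6, .l 7, .l 8, .inv (.l 6), .inv (.l 8)]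

def tcY_F : Tr := .leaf (nat_lit 0x152114283063c78d262c589121c388911a34e9d4a64a95122428538712182850810183040808111285280000)
def tcY_T : Tr := .leaf (nat_lit 36)
def tcY_P : Tr := .leaf (nat_lit 0x1ff001ff001ff001ff001ff001ff001ff001ff001ff001ff001ff001ff001ff001ff001ff001ff001ff04140006d226083428050ca24c1058500a18084c28030e8420140187020f0a00c341048500617081c28030b02123478300219041c58f0600430089830021d044418010e021e0c0086810d060042e0858300216)
def tcY_N_0 : Tr := .node (.node (.node (.node (.leaf (nat_lit 66625))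
  (.leaf (nat_lit 1025)))
  (.node (.leaf (nat_lit 1121351))
  (.leaf (nat_lit 231))))
  (.node (.node (.leaf (nat_lit 167075))
  (.leaf (nat_lit 132)))
  (.node (.leaf (nat_lit 36874344))
  (.leaf (nat_lit 6153)))))
  (.node (.node (.node (.leaf (nat_lit 5375105))
  (.leaf (nat_lit 99)))
  (.node (.leaf (nat_lit 6342))
  (.leaf (nat_lit 328))))
  (.node (.node (.leaf (nat_lit 140390))
  (.leaf (nat_lit 5125)))
  (.node (.leaf (nat_lit 305352))
  (.leaf (nat_lit 0)))))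
def tcY_N_1 : Tr := .node (.node (.node (.node (.leaf (nat_lit 133250))
  (.leaf (nat_lit 66)))
  (.node (.leaf (nat_lit 3284103))
  (.leaf (nat_lit 7175))))
  (.node (.node (.leaf (nat_lit 74790))
  (.leaf (nat_lit 165)))
  (.node (.leaf (nat_lit 174248))
  (.leaf (nat_lit 266)))))
  (.node (.node (.node (.leaf (nat_lit 165025))
  (.leaf (nat_lit 3075)))
  (.node (.leaf (nat_lit 108584))
  (.leaf (nat_lit 201))))
  (.node (.node (.leaf (nat_lit 173222))
  (.leaf (nat_lit 294)))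
  (.leaf (nat_lit 33))))
def tcY_N_2 : Tr := .node (.node (.node (.node (.leaf (nat_lit 99425))
  (.leaf (nat_lit 66)))
  (.node (.leaf (nat_lit 105575))
  (.leaf (nat_lit 231))))
  (.node (.node (.leaf (nat_lit 168100))
  (.leaf (nat_lit 4100)))
  (.node (.leaf (nat_lit 71477384))
  (.leaf (nat_lit 266)))))
  (.node (.node (.node (.leaf (nat_lit 5343330))
  (.leaf (nat_lit 99)))
  (.node (.leaf (nat_lit 203975))
  (.leaf (nat_lit 10248))))
  (.node (.node (.leaf (nat_lit 3286150))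
  (.leaf (nat_lit 294)))
  (.node (.leaf (nat_lit 239848))
  (.leaf (nat_lit 0)))))
def tcY_N_3 : Tr := .node (.node (.node (.node (.leaf (nat_lit 134275))
  (.leaf (nat_lit 2050)))
  (.node (.leaf (nat_lit 171175))
  (.leaf (nat_lit 328))))
  (.node (.node (.leaf (nat_lit 1123398))
  (.leaf (nat_lit 165)))
  (.node (.leaf (nat_lit 8456))
  (.leaf (nat_lit 8202)))))
  (.node (.node (.node (.leaf (nat_lit 166050))
  (.leaf (nat_lit 132)))
  (.node (.leaf (nat_lit 141384))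
  (.leaf (nat_lit 201))))
  (.node (.node (.leaf (nat_lit 39975))
  (.leaf (nat_lit 9222)))
  (.leaf (nat_lit 33))))
def tcY_N : Tr := .node (.node tcY_N_0
  tcY_N_1)
  (.node tcY_N_2
  tcY_N_3)
noncomputable def tcY : TC :=
  ⟨[.l 0, .l 1, .l 2, .l 3, .l 4, .l 5, .l 6, .l 7, .l 8, .l 9, .l 10],
    (nat_lit 2), (nat_lit 7), (nat_lit 0x20ca3a4a418820), (nat_lit 255), (nat_lit 3), (nat_lit 7), (nat_lit 32), (nat_lit 1), (nat_lit 62),
    get (nat_lit 10) (nat_lit 0x1003010030080400c02010030080400c02010030080400c02010030080400c02010030080400c020100400c0401806010040100301005010050100401404014040100401004014050100401004), Tr.get tcY_N, get (nat_lit 20) (nat_lit 0x3ff003ff003ff003ff003ff003ff003ff003ff003ff003ff003ff003ff003ff003ff003ff003ff003ff003ff003ff003ff003ff003ff003ff003ff003ff003ff003ff003ff003ff003ff003ff003ff000230002200021000200001f0001e0001d0001c0001b000190001800017000160001500014000130001200011000100000f0000e0000d0000c0000b0000a0000900008000070000600005),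
    Tr.get3 tcY_F (nat_lit 14) (nat_lit 6), Tr.get3 tcY_T (nat_lit 2) (nat_lit 8), Tr.get tcY_P⟩

theorem tcY_head : tcY.headOK relH4 tcY_iv = true := by decide +kernel

theorem tcY_b0 : allFrom (nat_lit 0) (nat_lit 1) tcY.blockOK = true := by decide +kernel

def tcY_Q8 : Tr := .leaf (nat_lit 23554)
theorem tcY_f8_0 : allFrom (nat_lit 0) (nat_lit 3) (tcY.finOK (nat_lit 3) (Tr.get3 tcY_Q8 (nat_lit 6) (nat_lit 7)) (nat_lit 8)) = true := by
  decide +kernel

def tcY_Q7 : Tr := .leaf (nat_lit 173842)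
theorem tcY_f7_0 : allFrom (nat_lit 0) (nat_lit 3) (tcY.finOK (nat_lit 3) (Tr.get3 tcY_Q7 (nat_lit 6) (nat_lit 7)) (nat_lit 7)) = true := by
  decide +kernel

def tcY_Q6 : Tr := .leaf (nat_lit 169616)
theorem tcY_f6_0 : allFrom (nat_lit 0) (nat_lit 3) (tcY.finOK (nat_lit 3) (Tr.get3 tcY_Q6 (nat_lit 6) (nat_lit 7)) (nat_lit 6)) = true := by
  decide +kernel

def tcY_Q5 : Tr := .leaf (nat_lit 157198)
theorem tcY_f5_0 : allFrom (nat_lit 0) (nat_lit 3) (tcY.finOK (nat_lit 3) (Tr.get3 tcY_Q5 (nat_lit 6) (nat_lit 7)) (nat_lit 5)) = true := by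
  decide +kernel

def tcY_Q4 : Tr := .leaf (nat_lit 149516)
theorem tcY_f4_0 : allFrom (nat_lit 0) (nat_lit 3) (tcY.finOK (nat_lit 3) (Tr.get3 tcY_Q4 (nat_lit 6) (nat_lit 7)) (nat_lit 4)) = true := by
  decide +kernel

def tcY_Q3 : Tr := .leaf (nat_lit 141194)
theorem tcY_f3_0 : allFrom (nat_lit 0) (nat_lit 3) (tcY.finOK (nat_lit 3) (Tr.get3 tcY_Q3 (nat_lit 6) (nat_lit 7)) (nat_lit 3)) = true := by
  decide +kernel

def tcY_Q2 : Tr := .leaf (nat_lit 189832)
theorem tcY_f2_0 : allFrom (nat_lit 0) (nat_lit 3) (tcY.finOK (nat_lit 3) (Tr.get3 tcY_Q2 (nat_lit 6) (nat_lit 7)) (nat_lit 2)) = true := by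
  decide +kernel

def tcY_Q1 : Tr := .leaf (nat_lit 181510)
theorem tcY_f1_0 : allFrom (nat_lit 0) (nat_lit 3) (tcY.finOK (nat_lit 3) (Tr.get3 tcY_Q1 (nat_lit 6) (nat_lit 7)) (nat_lit 1)) = true := by
  decide +kernel

theorem tcY_blocks : ∀ t < tcY.k, tcY.blockOK t = true :=
  (of_allFrom_append of_lt_zero tcY_b0)

/-- index 3 max 3 total 3 facts 25 | needed cosets 3 facts 25 steps 52 trivial 0 -/
theorem tcY_index {G : Type*} [Group G] {γ : ℕ → G} (hL : Lab γ tcY_iv) (hr : ∀ t ∈ relH4, t.ev γ = 1) {K : Subgroup G}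
    (hK : ∀ t ∈ ([.l 1, .l 2, .l 3, .l 4, .l 5, .l 6, .l 7] : List W), t.ev γ ∈ K) :
    K.relIndex (genW γ [.l 1, .l 2, .l 3, .l 4, .l 5, .l 6, .l 7, .l 8]) ≠ 0 ∧ K.relIndex (genW γ [.l 1, .l 2, .l 3, .l 4, .l 5, .l 6, .l 7, .l 8]) ≤ 3 :=
  TC.relIndex_le (D := tcY) (gens := [1, 2, 3, 4, 5, 6, 7, 8]) hL (List.forall_mem_cons.2 ⟨hL.zero_mem K, hK⟩) hr tcY_head tcY_blocks (by decide) (by decide)
   (List.forall_mem_cons.2 ⟨⟨_, (of_allFrom_append of_lt_zero tcY_f1_0)⟩,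
    List.forall_mem_cons.2 ⟨⟨_, (of_allFrom_append of_lt_zero tcY_f2_0)⟩,
    List.forall_mem_cons.2 ⟨⟨_, (of_allFrom_append of_lt_zero tcY_f3_0)⟩,
    List.forall_mem_cons.2 ⟨⟨_, (of_allFrom_append of_lt_zero tcY_f4_0)⟩,
    List.forall_mem_cons.2 ⟨⟨_, (of_allFrom_append of_lt_zero tcY_f5_0)⟩,
    List.forall_mem_cons.2 ⟨⟨_, (of_allFrom_append of_lt_zero tcY_f6_0)⟩,
    List.forall_mem_cons.2 ⟨⟨_, (of_allFrom_append of_lt_zero tcY_f7_0)⟩,
    List.forall_mem_cons.2 ⟨⟨_, (of_allFrom_append of_lt_zero tcY_f8_0)⟩,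
    fun _ h => absurd h List.not_mem_nil⟩⟩⟩⟩⟩⟩⟩⟩)

theorem tcY_idx {G : Type*} [Group G] {γ : ℕ → G} (h0 : γ 0 = 1) (hr : ∀ t ∈ relH4, t.ev γ = 1) {K : Subgroup G}
    (hK : ∀ t ∈ ([.l 1, .l 2, .l 3, .l 4, .l 5, .l 6, .l 7] : List W), t.ev γ ∈ K) :
    K.relIndex (genW γ [.l 1, .l 2, .l 3, .l 4, .l 5, .l 6, .l 7, .l 8]) ≠ 0 ∧ K.relIndex (genW γ [.l 1, .l 2, .l 3, .l 4, .l 5, .l 6, .l 7, .l 8]) ≤ 3 := by
  have a := lab_of_rels h0 hr (iv := tcY_iv) (labs := tcY_labs) (by decide +kernel)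
  have b := tcY_index a.1 a.2 (mems_fix (by decide +kernel) hK)
  rwa [genW_fix (by decide +kernel)] at b

/-- vectors -/
noncomputable def u4_V : ℕ := (nat_lit 0x9f325c98d0e1407ef5d396ed18b05cad4274a9111f3c70d992c549901a305090e10181)

/-- matrices -/
def u4_As : List ℕ := [17667082, 15959034, 1611828, 17673652, 14467250, 31895228, 4960200, 1605764, 14411152]

theorem u4_lin : linK 3 (adM 3) (muM 3) (2 + 2) 40 6 7 u4_V (spOK 3 (adM 3) (muM 3) (2 + 2) 1605276) u4_As u4.E = true := by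
  decide +kernel

end Cfsg.Lib.IA
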